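import Cfsg.Agent.Lib.Suz.Classify.Pieces
import Cfsg.Agent.Lib.Suz.Aut

/-! The unipotent part of a subgroup of the Suzuki group meeting `U`. -/

set_option autoImplicit false

namespace Cfsg.Agent.Lib.Suz.Classify

open Matrix MulAction Cfsg.Agent.Lib.Suz

variable {F : Type*} [Field F] [Fintype F] [CharP F 2] {m : ℕ}

/-- The stabiliser of the point at infinity. -/
abbrev bor (F : Type*) [Field F] [Fintype F] [CharP F 2] (m : ℕ) : Subgroup ↥(Cfsg.Sz F m) :=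
  MulAction.stabilizer ↥(Cfsg.Sz F m) (pt (F := F) m none)

theorem exists_tcoord (c : Ctx F m) (g : ↥(bor F m)) :
    ∃ h : Fˣ, ∃ a b, (g : ↥(Cfsg.Sz F m)) = uG c a b * tHom c h := by
  obtain ⟨a, b, h, e⟩ := (fix_inf_iff c g.1).1 g.2
  exact ⟨h, a, b, e⟩

/-- The torus coordinate on the stabiliser. -/
noncomputable def tcoord (c : Ctx F m) : ↥(bor F m) →* Fˣ :=
  MonoidHom.mk' (fun g => Classical.choose (exists_tcoord c g)) fun g g' => by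
    obtain ⟨a, b, e⟩ := Classical.choose_spec (exists_tcoord c g)
    obtain ⟨a', b', e'⟩ := Classical.choose_spec (exists_tcoord c g')
    obtain ⟨a'', b'', e''⟩ := Classical.choose_spec (exists_tcoord c (g * g'))
    set h := Classical.choose (exists_tcoord c g)
    set h' := Classical.choose (exists_tcoord c g')
    set h'' := Classical.choose (exists_tcoord c (g * g'))
    rw [Subgroup.coe_mul, e, e', mul_assoc, ← mul_assoc (tHom c h), tHom_mul_uG, mul_assoc,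
      ← map_mul, ← mul_assoc, uG_mul] at e''
    exact (uG_tHom_inj c e'').2.2.symm

theorem tcoord_spec (c : Ctx F m) (g : ↥(bor F m)) :
    ∃ a b, (g : ↥(Cfsg.Sz F m)) = uG c a b * tHom c (tcoord c g) :=
  Classical.choose_spec (exists_tcoord c g)

/-- The centre of `U`. -/
def zSub (c : Ctx F m) : Subgroup ↥(Cfsg.Sz F m) where
  carrier := {g | ∃ b, g = uG c 0 b}
  one_mem' := ⟨0, (uG_zero c).symm⟩
  mul_mem' := by rintro _ _ ⟨b, rfl⟩ ⟨b', rfl⟩; exact ⟨b + b', by rw [uG_mul]; simp⟩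
  inv_mem' := by rintro _ ⟨b, rfl⟩; exact ⟨b, by rw [uG_inv]; simp⟩

variable (c : Ctx F m)

theorem tcoord_eq_one_iff (g : ↥(bor F m)) : tcoord c g = 1 ↔ (g : ↥(Cfsg.Sz F m)) ∈ uSub c := by
  obtain ⟨a, b, e⟩ := tcoord_spec c g
  constructor
  · intro h; rw [e, h, map_one, mul_one]; exact uG_mem_uSub c a b
  · rintro ⟨a', b', e'⟩
    rw [e'] at e
    exact ((uG_tHom_inj c (h := 1) ((by rw [map_one, mul_one]; exact e) :
      uG c a' b' * tHom c 1 = uG c a b * tHom c (tcoord c g))).2.2).symm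

theorem mem_bor_of_uSub {u : ↥(Cfsg.Sz F m)} (h : u ∈ uSub c) : u • pt (F := F) m none = pt m none := by
  obtain ⟨a, b, rfl⟩ := h
  exact uG_smul_inf c a b

include c

theorem uni_mem_uSub {y : ↥(Cfsg.Sz F m)} (h4 : y ^ 4 = 1) (hy : y • pt (F := F) m none = pt m none) :
    y ∈ uSub c := by
  rw [← tcoord_eq_one_iff c ⟨y, hy⟩]
  have h : tcoord c ⟨y, hy⟩ ^ 4 = 1 := by
    rw [← map_pow, ← map_one (tcoord c)]
    exact congrArg _ (Subtype.ext h4)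
  exact Units.ext (sq_eq_one' (sq_eq_one' (by
    have := congrArg Units.val h
    simp only [Units.val_pow_eq_pow_val, Units.val_one] at this
    linear_combination this)))

theorem fix_inf_of_conj {h y : ↥(Cfsg.Sz F m)} (hy : y ∈ uSub c) (hy1 : y ≠ 1)
    (hhy : h * y * h⁻¹ ∈ uSub c) : h • pt (F := F) m none = pt m none := by
  obtain ⟨o, -, ho⟩ := uni_fix c (four_of_fix_inf c hy) hy1
  have e : y • h⁻¹ • pt (F := F) m none = h⁻¹ • pt m none := by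
    rw [eq_inv_smul_iff, ← mul_smul, ← mul_smul]
    exact mem_bor_of_uSub c hhy
  have h2 : h⁻¹ • pt (F := F) m none = pt m none :=
    (ho _ e).trans (ho _ (mem_bor_of_uSub c hy)).symm
  rw [inv_smul_eq_iff] at h2
  exact h2.symm

variable (M : Subgroup ↥(Cfsg.Sz F m))

theorem borel_key :
    ∀ h ∈ M, ∀ y ∈ M ⊓ uSub c, y ≠ 1 → (h * y * h⁻¹ ∈ M ⊓ uSub c ↔ h ∈ M ⊓ bor F m) := by
  intro h hh y hy hy1
  rw [Subgroup.mem_inf, Subgroup.mem_inf, MulAction.mem_stabilizer_iff]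
  refine ⟨fun e => ⟨hh, fix_inf_of_conj c hy.2 hy1 e.2⟩, fun e => ⟨mul_mem (mul_mem hh hy.1) (inv_mem hh), ?_⟩⟩
  refine uni_mem_uSub c (by rw [conj_pow, four_of_fix_inf c hy.2, mul_one, mul_inv_cancel]) ?_
  have e' : h⁻¹ • pt (F := F) m none = pt m none := by rw [inv_smul_eq_iff, e.2]
  rw [mul_smul, mul_smul, e', mem_bor_of_uSub c hy.2, e.2]

theorem z_key :
    ∀ h ∈ M, ∀ y ∈ M ⊓ zSub c, y ≠ 1 → (h * y * h⁻¹ ∈ M ⊓ zSub c ↔ h ∈ M ⊓ bor F m) := by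
  intro h hh y hy hy1
  have hzU : ∀ v ∈ zSub c, v ∈ uSub c := by rintro _ ⟨b, rfl⟩; exact uG_mem_uSub c 0 b
  rw [Subgroup.mem_inf, Subgroup.mem_inf, MulAction.mem_stabilizer_iff]
  refine ⟨fun e => ⟨hh, fix_inf_of_conj c (hzU _ hy.2) hy1 (hzU _ e.2)⟩,
    fun e => ⟨mul_mem (mul_mem hh hy.1) (inv_mem hh), ?_⟩⟩
  obtain ⟨b, rfl⟩ := hy.2
  have hU := ((borel_key c M h hh _ ⟨hy.1, uG_mem_uSub c 0 b⟩ hy1).2 ⟨hh, e.2⟩).2
  obtain ⟨a', b', e'⟩ := hU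
  have : uG c a' b' * uG c a' b' = 1 := by
    rw [← e', show h * uG c 0 b * h⁻¹ * (h * uG c 0 b * h⁻¹) = h * (uG c 0 b * uG c 0 b) * h⁻¹ by group,
      uG_sq, zero_mul, uG_zero, mul_one, mul_inv_cancel]
  exact ⟨b', by rw [e', sq_eq_one_uG c this]⟩

theorem zSub_of_order_two {y : ↥(Cfsg.Sz F m)} (hy : y ∈ uSub c) (h2 : y * y = 1) : y ∈ zSub c := by
  obtain ⟨a, b, rfl⟩ := hy
  exact ⟨b, by rw [sq_eq_one_uG c h2]⟩

theorem isPGroup_S : IsPGroup 2 (M ⊓ uSub c : Subgroup ↥(Cfsg.Sz F m)) := by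
  haveI : Fact (Nat.Prime 2) := ⟨Nat.prime_two⟩
  intro g
  refine ⟨2, Subtype.ext ?_⟩
  exact four_of_fix_inf c g.2.2

variable (hS : M ⊓ uSub c ≠ ⊥)

include hS

theorem z_ne_bot : M ⊓ zSub c ≠ ⊥ := by
  obtain ⟨y, hy, hy1⟩ := (Subgroup.ne_bot_iff_exists_ne_one.1 hS) |> fun ⟨y, hy⟩ =>
    (⟨y.1, y.2, fun e => hy (Subtype.ext e)⟩ : ∃ y, y ∈ M ⊓ uSub c ∧ y ≠ 1)
  intro hbot
  have key : ∀ v ∈ M ⊓ uSub c, v * v = 1 → v = 1 := fun v hv h2 =>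
    Subgroup.mem_bot.1 (hbot ▸ ⟨hv.1, zSub_of_order_two c hv.2 h2⟩)
  have h1 := key (y * y) (mul_mem hy hy) (by
    rw [show y * y * (y * y) = y ^ 4 by simp [pow_succ, mul_assoc], four_of_fix_inf c hy.2])
  exact hy1 (key y hy h1)

/-- `M ∩ U` is a Sylow 2-subgroup of `M`: 2-elements of `M` are conjugate into it. -/
theorem uni_mem_cls {y : ↥(Cfsg.Sz F m)} (hy : y ∈ M) (h4 : y ^ 4 = 1) (hy1 : y ≠ 1) :
    y ∈ Cls M (M ⊓ uSub c) := by
  classical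
  haveI : Fact (Nat.Prime 2) := ⟨Nat.prime_two⟩
  set S := (M ⊓ uSub c).subgroupOf M with hSdef
  have hSp : IsPGroup 2 S := by
    intro g
    refine ⟨2, Subtype.ext (Subtype.ext ?_)⟩
    exact four_of_fix_inf c (Subgroup.mem_subgroupOf.1 g.2).2
  obtain ⟨P, hP⟩ := hSp.exists_le_sylow
  obtain ⟨z, hz, hz1⟩ : ∃ z, z ∈ M ⊓ uSub c ∧ z ≠ 1 := by
    obtain ⟨z, hz⟩ := Subgroup.ne_bot_iff_exists_ne_one.1 hS
    exact ⟨z.1, z.2, fun e => hz (Subtype.ext e)⟩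
  have hPS : (P : Subgroup ↥M) = S := by
    by_contra hne
    have hlt : S < (P : Subgroup ↥M) := lt_of_le_of_ne hP (Ne.symm hne)
    haveI := (P.2).isNilpotent
    have hlt' : S.subgroupOf (P : Subgroup ↥M) < ⊤ := by
      rw [lt_top_iff_ne_top, Ne, Subgroup.subgroupOf_eq_top]
      exact not_le_of_gt hlt
    have hgrow := Group.normalizerCondition_of_isNilpotent (S.subgroupOf (P : Subgroup ↥M)) hlt'
    obtain ⟨r, hr, hrS⟩ := SetLike.exists_of_lt hgrow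
    apply hrS
    rw [Subgroup.mem_subgroupOf, hSdef, Subgroup.mem_subgroupOf]
    obtain ⟨k, hk⟩ := P.2 r
    have hp4 : ((r : ↥M) : ↥(Cfsg.Sz F m)) ^ 4 = 1 := by
      by_contra h4'
      have ho := odd_order_semi c h4' (mem_cz_self _)
      have hd : orderOf ((r : ↥M) : ↥(Cfsg.Sz F m)) ∣ 2 ^ k := by
        refine orderOf_dvd_of_pow_eq_one ?_
        have := congrArg (fun t : ↥(P : Subgroup ↥M) => ((t : ↥M) : ↥(Cfsg.Sz F m))) hk
        simpa using this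
      obtain ⟨i, -, hi⟩ := (Nat.dvd_prime_pow Nat.prime_two).1 hd
      rw [hi] at ho
      rcases Nat.eq_zero_or_pos i with rfl | hi0
      · rw [pow_zero, orderOf_eq_one_iff] at hi
        exact h4' (by rw [hi, one_pow])
      · exact (Nat.not_even_iff_odd.2 ho) (Nat.even_pow.2 ⟨even_two, by omega⟩)
    refine ⟨r.1.2, uni_mem_uSub c hp4 (fix_inf_of_conj c (y := z) hz.2 hz1 ?_)⟩
    have hzP : (⟨z, hz.1⟩ : ↥M) ∈ (P : Subgroup ↥M) := hP (Subgroup.mem_subgroupOf.2 hz)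
    have := (Subgroup.mem_normalizer_iff.1 hr ⟨⟨z, hz.1⟩, hzP⟩).1 (Subgroup.mem_subgroupOf.2 (Subgroup.mem_subgroupOf.2 hz))
    exact (Subgroup.mem_subgroupOf.1 (Subgroup.mem_subgroupOf.1 this)).2
  have hy' : IsPGroup 2 (Subgroup.zpowers (⟨y, hy⟩ : ↥M)) := by
    rintro ⟨g, hg⟩
    obtain ⟨i, rfl⟩ := Subgroup.mem_zpowers_iff.1 hg
    refine ⟨2, Subtype.ext ?_⟩
    show ((⟨y, hy⟩ : ↥M) ^ i) ^ (2 ^ 2) = 1
    rw [← zpow_natCast, ← _root_.zpow_mul, mul_comm, _root_.zpow_mul, zpow_natCast,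
      show (⟨y, hy⟩ : ↥M) ^ 2 ^ 2 = 1 from Subtype.ext h4, _root_.one_zpow]
  obtain ⟨Q, hQ⟩ := hy'.exists_le_sylow
  obtain ⟨h, hh⟩ := MulAction.exists_smul_eq ↥M P Q
  have : (⟨y, hy⟩ : ↥M) ∈ (Q : Subgroup ↥M) := hQ (Subgroup.mem_zpowers _)
  rw [← hh] at this
  obtain ⟨u, hu, e⟩ := this
  rw [SetLike.mem_coe, hPS, hSdef, Subgroup.mem_subgroupOf] at hu
  have e' : (h : ↥(Cfsg.Sz F m)) * (u : ↥(Cfsg.Sz F m)) * (h : ↥(Cfsg.Sz F m))⁻¹ = y := congrArg Subtype.val e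
  exact ⟨h, h.2, u, hu, fun e2 => hy1 (by rw [← e', e2, mul_one, mul_inv_cancel]), e'.symm⟩

end Cfsg.Agent.Lib.Suz.Classify
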