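import Cfsg.Agent.Lib.Suz.Classify.Semi

/-! Counting in a subgroup of the Suzuki group. -/

set_option autoImplicit false

namespace Cfsg.Agent.Lib.Suz.Classify

open Matrix MulAction Cfsg.Agent.Lib.Suz

theorem card_of_fibers {α β : Type*} [Finite α] [Finite β] (f : α → β) (k : ℕ)
    (h : ∀ b, Nat.card {a // f a = b} = k) : Nat.card α = Nat.card β * k := by
  haveI := Fintype.ofFinite β
  rw [← Nat.card_congr (Equiv.sigmaFiberEquiv f), Nat.card_sigma, Finset.sum_congr rfl fun b _ => h b,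
    Finset.sum_const, Finset.card_univ, Nat.card_eq_fintype_card, smul_eq_mul]

variable {G : Type*} [Group G] [Finite G]

/-- The set of conjugates under `M` of the non-trivial elements of `A`. -/
def Cls (M A : Subgroup G) : Set G := {y | ∃ h ∈ M, ∃ u ∈ A, u ≠ 1 ∧ y = h * u * h⁻¹}

theorem cls_le {M A : Subgroup G} (hA : A ≤ M) {y : G} (hy : y ∈ Cls M A) : y ∈ M ∧ y ≠ 1 := by
  obtain ⟨h, hh, u, hu, hu1, rfl⟩ := hy
  exact ⟨mul_mem (mul_mem hh (hA hu)) (inv_mem hh), fun e => hu1 (conj_eq_one_iff.1 e)⟩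

theorem cls_card (M A N : Subgroup G) (hN : N ≤ M)
    (key : ∀ h ∈ M, ∀ y ∈ A, y ≠ 1 → (h * y * h⁻¹ ∈ A ↔ h ∈ N)) :
    Nat.card (Cls M A) * Nat.card N = Nat.card M * (Nat.card A - 1) := by
  classical
  let f : ↥M × {u : A // u ≠ 1} → Cls M A := fun p =>
    ⟨p.1.1 * p.2.1.1 * p.1.1⁻¹, p.1, p.1.2, p.2.1, p.2.1.2, fun e => p.2.2 (Subtype.ext e), rfl⟩
  have hk : ∀ y, Nat.card {p // f p = y} = Nat.card N := by
    rintro ⟨y, h0, hh0, u0, hu0, hu01, rfl⟩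
    have hmem : ∀ t : N, (t : G)⁻¹ * u0 * t ∈ A := fun t => by
      have := (key _ (hN (inv_mem t.2)) u0 hu0 hu01).2 (inv_mem t.2)
      rwa [inv_inv] at this
    have hne : ∀ t : N, (⟨(t : G)⁻¹ * u0 * t, hmem t⟩ : A) ≠ 1 := fun t e => hu01 (by
      have e' : (t : G)⁻¹ * u0 * t = 1 := congrArg Subtype.val e
      calc u0 = (t : G) * ((t : G)⁻¹ * u0 * t) * (t : G)⁻¹ := by group
        _ = 1 := by rw [e', mul_one, mul_inv_cancel])
    let g : N → {p // f p = ⟨h0 * u0 * h0⁻¹, h0, hh0, u0, hu0, hu01, rfl⟩} := fun t =>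
      ⟨(⟨h0 * t, mul_mem hh0 (hN t.2)⟩, ⟨⟨_, hmem t⟩, hne t⟩), Subtype.ext (by
        show h0 * (t : G) * ((t : G)⁻¹ * u0 * t) * (h0 * (t : G))⁻¹ = h0 * u0 * h0⁻¹
        group)⟩
    refine (Nat.card_congr (Equiv.ofBijective g ⟨fun a b e => ?_, fun p => ?_⟩)).symm
    · have := congrArg (fun p => (p.1.1 : G)) e
      exact Subtype.ext (mul_left_cancel (show h0 * (a : G) = h0 * b from this))
    · obtain ⟨⟨h, ⟨u, hu1⟩⟩, hp⟩ := p
      have hp' : h.1 * u.1 * h.1⁻¹ = h0 * u0 * h0⁻¹ := congrArg Subtype.val hp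
      have e : (h0⁻¹ * h.1) * u.1 * (h0⁻¹ * h.1)⁻¹ = u0 := by
        calc (h0⁻¹ * h.1) * u.1 * (h0⁻¹ * h.1)⁻¹ = h0⁻¹ * (h.1 * u.1 * h.1⁻¹) * h0 := by group
          _ = u0 := by rw [hp']; group
      have ht : h0⁻¹ * h.1 ∈ N := (key _ (mul_mem (inv_mem hh0) h.2) u.1 u.2
        (fun e' => hu1 (Subtype.ext e'))).1 (by rw [e]; exact hu0)
      refine ⟨⟨_, ht⟩, Subtype.ext (Prod.ext (Subtype.ext ?_) (Subtype.ext (Subtype.ext ?_)))⟩
      · show h0 * (h0⁻¹ * h.1) = h.1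
        rw [mul_inv_cancel_left]
      · show (h0⁻¹ * h.1)⁻¹ * u0 * (h0⁻¹ * h.1) = u.1
        rw [← e]; group
  rw [← card_of_fibers f _ hk, Nat.card_prod]
  congr 1
  haveI : Fintype A := Fintype.ofFinite _
  rw [Nat.card_eq_fintype_card, Fintype.card_subtype_compl, Fintype.card_subtype_eq, Nat.card_eq_fintype_card]

theorem orbit_card (M : Subgroup G) (z : G) :
    Nat.card {y // ∃ h ∈ M, y = h * z * h⁻¹} * Nat.card (M ⊓ Subgroup.centralizer {z} : Subgroup G) =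
      Nat.card M := by
  let f : ↥M → {y // ∃ h ∈ M, y = h * z * h⁻¹} := fun h => ⟨h.1 * z * h.1⁻¹, h.1, h.2, rfl⟩
  refine (card_of_fibers f _ ?_).symm
  rintro ⟨y, h0, hh0, rfl⟩
  let g : ↥(M ⊓ Subgroup.centralizer {z} : Subgroup G) → {h // f h = ⟨h0 * z * h0⁻¹, h0, hh0, rfl⟩} := fun t =>
    ⟨⟨h0 * t, mul_mem hh0 t.2.1⟩, Subtype.ext (by
      show h0 * (t : G) * z * (h0 * (t : G))⁻¹ = h0 * z * h0⁻¹
      rw [mul_assoc h0 _ z, Subgroup.mem_centralizer_singleton_iff.1 t.2.2]; group)⟩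
  refine (Nat.card_congr (Equiv.ofBijective g ⟨fun a b e => ?_, fun p => ?_⟩)).symm
  · have := congrArg (fun p => (p.1.1 : G)) e
    exact Subtype.ext (mul_left_cancel (show h0 * (a : G) = h0 * b from this))
  · obtain ⟨h, hp⟩ := p
    have hp' : h.1 * z * h.1⁻¹ = h0 * z * h0⁻¹ := congrArg Subtype.val hp
    have hm : h0⁻¹ * h.1 ∈ M := mul_mem (inv_mem hh0) h.2
    refine ⟨⟨h0⁻¹ * h.1, hm, Subgroup.mem_centralizer_singleton_iff.2 ?_⟩,
      Subtype.ext (Subtype.ext (mul_inv_cancel_left h0 h.1))⟩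
    calc h0⁻¹ * h.1 * z = h0⁻¹ * (h.1 * z * h.1⁻¹) * h.1 := by group
      _ = z * (h0⁻¹ * h.1) := by rw [hp']; group

end Cfsg.Agent.Lib.Suz.Classify
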