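import Cfsg.Agent.Lib.Suz.Classify.Borel
import Cfsg.Agent.Lib.Suz.Subfield

/-! Subgroups with the numerical shape of a smaller Suzuki group are subfield subgroups. -/

set_option autoImplicit false

namespace Cfsg.Agent.Lib.Suz.Classify

open Matrix MulAction Cfsg.Agent.Lib.Suz

theorem map_conj_eq_self {G : Type*} [Group G] {H : Subgroup G} {u : G}
    (hu : u ∈ Subgroup.normalizer (H : Set G)) : H.map (MulAut.conj u).toMonoidHom = H := by
  ext y
  rw [Subgroup.mem_map_equiv, MulAut.conj_symm_apply]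
  have := Subgroup.mem_normalizer_iff.1 (inv_mem hu) y
  rw [inv_inv] at this
  exact this.symm

variable {F : Type*} [Field F] [Fintype F] [CharP F 2] {m : ℕ} (c : Ctx F m)

include c

theorem normalizer_zSub {u : ↥(Cfsg.Sz F m)} (hu : u • pt (F := F) m none = pt m none) :
    u ∈ Subgroup.normalizer (zSub c : Set ↥(Cfsg.Sz F m)) := by
  obtain ⟨a, b, h, rfl⟩ := (fix_inf_iff c u).1 hu
  refine mul_mem ?_ ?_
  · rw [Subgroup.mem_normalizer_iff]
    intro y
    constructor
    · rintro ⟨x, rfl⟩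
      exact ⟨x, by rw [uG_inv, uG_mul, uG_mul]; congr 1 <;> simp [map_zero] <;> grind⟩
    · rintro ⟨x, hx⟩
      refine ⟨x, ?_⟩
      rw [mul_inv_eq_iff_eq_mul] at hx
      apply mul_left_cancel (a := uG c a b)
      rw [hx, uG_mul, uG_mul]
      congr 1 <;> simp [map_zero, add_comm]
  · rw [Subgroup.mem_normalizer_iff]
    intro y
    constructor
    · rintro ⟨x, rfl⟩
      exact ⟨_, by rw [tHom_conj_uG, mul_zero]⟩
    · rintro ⟨x, hx⟩
      refine ⟨(((h⁻¹ : Fˣ) : F) ^ 2 * th F m ((h⁻¹ : Fˣ) : F) * x), ?_⟩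
      have : y = tHom c h⁻¹ * uG c 0 x * (tHom c h⁻¹)⁻¹ := by rw [← hx, map_inv]; group
      rw [this, tHom_conj_uG, mul_zero]

theorem inf_card_conj {M H : Subgroup ↥(Cfsg.Sz F m)} {u : ↥(Cfsg.Sz F m)}
    (hu : u ∈ Subgroup.normalizer (H : Set ↥(Cfsg.Sz F m))) :
    Nat.card (M.map (MulAut.conj u).toMonoidHom ⊓ H : Subgroup ↥(Cfsg.Sz F m)) =
      Nat.card (M ⊓ H : Subgroup ↥(Cfsg.Sz F m)) := by
  conv_lhs => rw [← map_conj_eq_self hu]
  rw [← Subgroup.map_inf _ _ _ (MulAut.conj u).injective,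
    Subgroup.card_map_of_injective (MulAut.conj u).injective]

theorem uG_fix_eq {a b : F} {o : Om F m} (h : uG c a b • o = o) (ho : o ≠ pt (F := F) m none) :
    uG c a b = 1 := by
  obtain ⟨ha, hb⟩ := uG_fix c h ho
  rw [ha, hb, uG_zero]

variable {K : Type*} [Field K] [Fintype K] [CharP K 2] {k : ℕ} (cK : Ctx K k)
variable (ι : K →+* F) (hθ : ∀ x, ι (th K k x) = th F m (ι x))

include cK hθ

theorem eq_emb (M : Subgroup ↥(Cfsg.Sz F m))
    (hW : Nat.card (M ⊓ uSub c : Subgroup ↥(Cfsg.Sz F m)) = Fintype.card K * Fintype.card K)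
    (hZ : Nat.card (M ⊓ zSub c : Subgroup ↥(Cfsg.Sz F m)) = Fintype.card K)
    (hB : Nat.card (M ⊓ bor F m : Subgroup ↥(Cfsg.Sz F m)) =
      Fintype.card K * Fintype.card K * (Fintype.card K - 1))
    (hM : Nat.card M = Fintype.card K * Fintype.card K * (Fintype.card K - 1) *
      (Fintype.card K * Fintype.card K + 1))
    (hT : ∀ h : Kˣ, tHom c (iU ι h) ∈ M) (h1 : uG c 0 1 ∈ M) :
    M = (embSz ι c cK hθ).range := by
  classical
  set Q := Fintype.card K with hQdef
  have hQ8 : 8 ≤ Q := cK.eight_le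
  have hW0 : ∀ b : K, uG c 0 (ι b) ∈ M := by
    intro b
    rcases eq_or_ne b 0 with rfl | hb
    · rw [map_zero, uG_zero]; exact one_mem _
    obtain ⟨-, ⟨h, hh⟩, -⟩ := theta_units_surj cK b hb
    have := mul_mem (mul_mem (hT h) h1) (inv_mem (hT h))
    rw [tHom_conj_uG, mul_zero, mul_one] at this
    convert this using 2
    rw [← hh, map_mul, map_pow, hθ]; rfl
  have hinv : ∀ β, uG c 0 β ∈ M → β ∈ Set.range ι := by
    intro β hβ
    let g : K → ↥(M ⊓ zSub c : Subgroup ↥(Cfsg.Sz F m)) := fun b => ⟨uG c 0 (ι b), hW0 b, _, rfl⟩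
    have hg : Function.Injective g := fun x y h => ι.injective (uG_inj c (congrArg Subtype.val h)).2
    have hb : Function.Bijective g := (Nat.bijective_iff_injective_and_card g).2
      ⟨hg, by rw [hZ, Nat.card_eq_fintype_card, hQdef]⟩
    obtain ⟨b, hb'⟩ := hb.2 ⟨uG c 0 β, hβ, _, rfl⟩
    exact ⟨b, (uG_inj c (congrArg Subtype.val hb')).2⟩
  have hαβ : ∀ α β, uG c α β ∈ M → α ∈ Set.range ι ∧ β ∈ Set.range ι := by
    intro α β hg
    have hsq := mul_mem hg hg
    rw [uG_sq] at hsq
    obtain ⟨s, hs⟩ := hinv _ hsq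
    have hα : α ∈ Set.range ι := by
      rcases eq_or_ne s 0 with rfl | hs0
      · rw [map_zero] at hs
        refine ⟨0, ?_⟩
        rw [map_zero]
        rcases mul_eq_zero.1 hs.symm with h | h
        · exact h.symm
        · exact ((map_eq_zero _).1 h).symm
      · obtain ⟨-, -, ⟨h, hh⟩⟩ := theta_units_surj cK s hs0
        exact ⟨h, xtheta_inj c (by rw [← hθ, ← map_mul, hh, hs])⟩
    refine ⟨hα, ?_⟩
    rcases eq_or_ne α 0 with rfl | hα0
    · exact hinv _ hg
    obtain ⟨a, rfl⟩ := hα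
    obtain ⟨x, hx0, hx1⟩ := cK.exists_k0
    have h1x : 1 + x ≠ 0 := fun e => hx1 (by
      have := eq_neg_of_add_eq_zero_right e; rwa [CharTwo.neg_eq] at this)
    have hcp : ∀ y, y ≠ 0 → uG c (ι y * ι a) (ι (y * th K k y) * β) ∈ M := by
      intro y hy
      obtain ⟨⟨h, hh⟩, -, -⟩ := theta_units_surj cK y hy
      have := mul_mem (mul_mem (hT h) hg) (inv_mem (hT h))
      rw [tHom_conj_uG] at this
      convert this using 2
      · show _ = th F m (ι (h : K)) * ι a
        rw [← hθ, hh]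
      · show _ = ι (h : K) ^ 2 * th F m (ι (h : K)) * β
        rw [← hθ, ← map_pow, ← map_mul, ← cK.tits (h : K), hh, mul_comm y]
    have hm := mul_mem (inv_mem (hcp (1 + x) h1x)) (mul_mem hg (hcp x hx0))
    rw [uG_inv, uG_mul, uG_mul] at hm
    have hfirst : ι (1 + x) * ι a + (ι a + ι x * ι a) = 0 := by
      rw [map_add, map_one]; linear_combination add_self0 (ι a + ι x * ι a)
    rw [hfirst] at hm
    obtain ⟨r, hr⟩ := hinv _ hm
    have hne : x + th K k x ≠ 0 := fun e => by
      have := eq_neg_of_add_eq_zero_right e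
      rw [CharTwo.neg_eq] at this
      rcases tits_fixed cK.tits this with h | h
      exacts [hx0 h, hx1 h]
    refine ⟨(r + ((1 + x) * a * th K k ((1 + x) * a) + x * a * th K k a + (a + x * a) * th K k ((1 + x) * a))) /
      (x + th K k x), ?_⟩
    have hne' : ι x + th F m (ι x) ≠ 0 := by
      rw [← hθ, ← map_add]; exact (_root_.map_ne_zero ι).2 hne
    simp only [map_div₀, map_add, map_mul, map_one, hθ] at hr ⊢
    rw [div_eq_iff hne', hr]
    have h2 : (2 : F) = 0 := two0
    grind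
  have hWeq : ∀ a b : K, uG c (ι a) (ι b) ∈ M := by
    intro a b
    have hle : M ⊓ uSub c ≤ (uSub cK).map (embSz ι c cK hθ) := by
      rintro x ⟨hxM, α, β, rfl⟩
      obtain ⟨⟨a', rfl⟩, b', rfl⟩ := hαβ α β hxM
      exact ⟨uG cK a' b', uG_mem_uSub cK a' b', embSz_uG c cK ι hθ a' b'⟩
    have he := Subgroup.eq_of_le_of_card_ge hle (by
      rw [Subgroup.card_map_of_injective (embSz_injective c cK ι hθ), card_uSub cK, hW, sq])
    have : uG c (ι a) (ι b) ∈ M ⊓ uSub c := by
      rw [he]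
      exact ⟨uG cK a b, uG_mem_uSub cK a b, embSz_uG c cK ι hθ a b⟩
    exact this.1
  -- the orbit of `∞`
  set O := MulAction.orbit ↥M (pt (F := F) m none) with hO
  have hOcard : Nat.card O = Q * Q + 1 := by
    have hst : Nat.card (MulAction.stabilizer ↥M (pt (F := F) m none)) = Q * Q * (Q - 1) := by
      rw [← hB]
      exact Nat.card_congr
        { toFun := fun g => ⟨g.1.1, g.1.2, g.2⟩
          invFun := fun g => ⟨⟨g.1, g.2.1⟩, g.2.2⟩
          left_inv := fun _ => rfl
          right_inv := fun _ => rfl }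
    have h := MulAction.index_stabilizer ↥M (pt (F := F) m none)
    have h2 := Subgroup.card_mul_index (MulAction.stabilizer ↥M (pt (F := F) m none))
    rw [hst, hM] at h2
    rw [Nat.card_coe_set_eq, hO, ← h]
    exact Nat.eq_of_mul_eq_mul_left (by
        have : 0 < Q - 1 := by omega
        positivity) h2
  have hclosed : ∀ g ∈ M, ∀ o ∈ O, g • o ∈ O := by
    rintro g hg _ ⟨⟨t, ht⟩, rfl⟩
    exact ⟨⟨g * t, mul_mem hg ht⟩, by show (g * t) • pt (F := F) m none = g • t • _; rw [mul_smul]⟩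
  -- every finite point of the orbit is rational over `K`
  have hrat : ∀ x y, pt (F := F) m (some (x, y)) ∈ O → x ∈ Set.range ι ∧ y ∈ Set.range ι := by
    intro x y hxy
    -- the orbit minus `∞` is one orbit of `M ∩ U`
    let G : Option (K × K) → O := fun p => match p with
      | none => ⟨pt m none, MulAction.mem_orbit_self _⟩
      | some p => ⟨uG c (ι p.1) (ι p.2) • pt (F := F) m (some (x, y)), hclosed _ (hWeq p.1 p.2) _ hxy⟩
    have hG : Function.Bijective G := by
      refine (Nat.bijective_iff_injective_and_card G).2 ⟨?_, ?_⟩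
      · rintro (_ | ⟨a, b⟩) (_ | ⟨a', b'⟩) h <;> have h' := congrArg Subtype.val h
        · rfl
        · change pt (F := F) m none = uG c (ι a') (ι b') • pt m (some (x, y)) at h'
          rw [uG_smul] at h'
          simpa using (pt_bij m).1 h'
        · change uG c (ι a) (ι b) • pt (F := F) m (some (x, y)) = pt m none at h'
          rw [uG_smul] at h'
          simpa using (pt_bij m).1 h'
        · change uG c (ι a) (ι b) • pt (F := F) m (some (x, y)) =
            uG c (ι a') (ι b') • pt m (some (x, y)) at h'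
          rw [uG_smul, uG_smul] at h'
          have h'' := (pt_bij m).1 h'
          simp only [Option.some.injEq, Prod.mk.injEq, add_right_inj] at h''
          obtain rfl := ι.injective h''.1
          have e := h''.2
          simp only [add_assoc, add_right_inj] at e
          rw [ι.injective e]
      · rw [Finite.card_option, Nat.card_prod, Nat.card_eq_fintype_card, hOcard]
    have hmove : ∀ h : Kˣ, ∃ a b : K, th F m (iU ι h : Fˣ) * x = x + ι a ∧
        ((iU ι h : Fˣ) : F) ^ 2 * th F m (iU ι h : Fˣ) * y = y + th F m (ι a) * x + ι b := by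
      intro h
      obtain ⟨p, hp⟩ := hG.2 ⟨_, hclosed _ (hT h) _ hxy⟩
      have hp' := congrArg Subtype.val hp
      rcases p with _ | ⟨a, b⟩
      · change pt (F := F) m none = tHom c (iU ι h) • pt m (some (x, y)) at hp'
        rw [tHom_smul] at hp'
        simpa using (pt_bij m).1 hp'
      · change uG c (ι a) (ι b) • pt (F := F) m (some (x, y)) = tHom c (iU ι h) • pt m (some (x, y)) at hp'
        rw [tHom_smul, uG_smul] at hp'
        have e := (pt_bij m).1 hp'
        simp only [Option.some.injEq, Prod.mk.injEq] at e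
        exact ⟨a, b, e.1.symm, e.2.symm⟩
    obtain ⟨z, hz0, hz1⟩ := cK.exists_k0
    obtain ⟨a, b, e1, e2⟩ := hmove (Units.mk0 z hz0)
    change th F m (ι z) * x = x + ι a at e1
    change ι z ^ 2 * th F m (ι z) * y = y + th F m (ι a) * x + ι b at e2
    have hd : th K k z - 1 ≠ 0 := by
      rw [sub_ne_zero]
      exact fun e => hz1 ((th K k).injective (e.trans (map_one (th K k)).symm))
    have hx : x = ι (a / (th K k z - 1)) := by
      rw [map_div₀, eq_div_iff ((_root_.map_ne_zero ι).2 hd), map_sub, map_one, hθ]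
      linear_combination e1
    refine ⟨⟨_, hx.symm⟩, ?_⟩
    have hd2 : z ^ 2 * th K k z - 1 ≠ 0 := by
      rw [sub_ne_zero]
      exact fun e => hz1 (tits_sq_mul cK.tits e)
    refine ⟨(th K k a * (a / (th K k z - 1)) + b) / (z ^ 2 * th K k z - 1), ?_⟩
    rw [map_div₀, div_eq_iff ((_root_.map_ne_zero ι).2 hd2), map_sub, map_one, map_mul, map_pow, hθ,
      map_add, map_mul, hθ, ← hx]
    linear_combination -e2
  have hOrat : ∀ a b : K, pt (F := F) m (some (ι a, ι b)) ∈ O := by
    intro a b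
    obtain ⟨o, hoO, ho⟩ : ∃ o ∈ O, o ≠ pt (F := F) m none := by
      by_contra hcon
      push Not at hcon
      have : Nat.card O ≤ 1 := by
        rw [Finite.card_le_one_iff_subsingleton]
        exact ⟨fun p q => Subtype.ext ((hcon _ p.2).trans (hcon _ q.2).symm)⟩
      rw [hOcard] at this
      have : 0 < Q * Q := by positivity
      omega
    obtain ⟨o, rfl⟩ := (pt_bij m).2 o
    rcases o with _ | ⟨x, y⟩
    · exact absurd rfl ho
    obtain ⟨⟨x', rfl⟩, y', rfl⟩ := hrat x y hoO
    have hmem := hclosed _ (hWeq (a - x') (b - y' - th K k (a - x') * x')) _ hoO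
    rw [uG_smul] at hmem
    have e1 : ι x' + ι (a - x') = ι a := by rw [map_sub]; ring
    have e2 : ι y' + th F m (ι (a - x')) * ι x' + ι (b - y' - th K k (a - x') * x') = ι b := by
      rw [map_sub (f := ι) (b - y'), map_sub (f := ι) b, map_mul, hθ]; ring
    rwa [e1, e2] at hmem
  have hzero : pt (F := F) m (some (0, 0)) ∈ O := by simpa using hOrat 0 0
  obtain ⟨⟨h0, hh0⟩, hh0'⟩ := hzero
  change h0 • pt (F := F) m none = pt m (some (0, 0)) at hh0'
  -- an element of `M` exchanging `∞` and `0`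
  obtain ⟨j, hjM, hjinf, hjzero⟩ : ∃ j ∈ M, j • pt (F := F) m none = pt m (some (0, 0)) ∧
      j • pt (F := F) m (some (0, 0)) = pt m none := by
    have hp := hclosed _ (inv_mem hh0) _ (MulAction.mem_orbit_self (M := ↥M) (pt (F := F) m none))
    obtain ⟨o, ho⟩ := (pt_bij m).2 (h0⁻¹ • pt (F := F) m none)
    rw [← ho] at hp
    rcases o with _ | ⟨x, y⟩
    · exfalso
      rw [eq_inv_smul_iff, hh0'] at ho
      simpa using (pt_bij m).1 ho
    obtain ⟨⟨x', rfl⟩, y', rfl⟩ := hrat x y hp
    refine ⟨h0 * uG c (ι x') (ι y'), mul_mem hh0 (hWeq x' y'), ?_, ?_⟩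
    · rw [mul_smul, uG_smul_inf, hh0']
    · rw [mul_smul, uG_smul_zero, ho, smul_inv_smul]
  obtain ⟨L, hL⟩ := (two_point_iff c (wG c * j)).1
    ⟨by rw [mul_smul, hjinf, wG_smul_zero], by rw [mul_smul, hjzero, wG_smul_inf]⟩
  have hjL : j = wG c * tHom c L := by rw [← hL, ← mul_assoc, wG_mul_self, one_mul]
  have hw : wG c ∈ M := by
    have hLθ : th F m (L : F) ≠ 0 := (_root_.map_ne_zero _).2 L.ne_zero
    have hf : fS (th F m) (th F m L) 0 = th F m L ^ 2 * (L : F) ^ 2 := by
      simp only [fS, map_zero, mul_zero, zero_add, add_zero, c.tits (L : F)]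
    have hne : fS (th F m) (th F m L) 0 ≠ 0 := by
      rw [hf]; exact mul_ne_zero (pow_ne_zero _ hLθ) (pow_ne_zero _ L.ne_zero)
    have hmem := hclosed _ hjM _ (hOrat 1 0)
    have hp : j • pt (F := F) m (some (ι 1, ι 0)) = pt m (some (0, ((L : F) ^ 2 * th F m L)⁻¹)) := by
      rw [map_one, map_zero, hjL, mul_smul, tHom_smul, mul_one, mul_zero]
      apply Subtype.ext
      show wS F • ovPt (th F m) (some (th F m L, 0)) = _
      rw [wS_smul_some c _ _ hne, zero_div]
      refine congrArg (fun z => ovPt (th F m) (some ((0 : F), z))) ?_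
      rw [hf]
      field_simp
    rw [hp] at hmem
    obtain ⟨-, b', hb⟩ := hrat _ _ hmem
    have hb0' : b' ≠ 0 := fun e => by
      rw [e, map_zero, eq_comm, inv_eq_zero] at hb
      exact mul_ne_zero (pow_ne_zero _ L.ne_zero) hLθ hb
    obtain ⟨-, ⟨h', hh'⟩, -⟩ := theta_units_surj cK b'⁻¹ (inv_ne_zero hb0')
    have hLι : L = iU ι h' := chi_inj c (by
      show _ = ι (h' : K) ^ 2 * th F m (ι (h' : K))
      rw [← hθ, ← map_pow, ← map_mul, hh', map_inv₀, hb, inv_inv])
    have := mul_mem hjM (inv_mem (hT h'))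
    rwa [hjL, hLι, mul_inv_cancel_right] at this
  refine (Subgroup.eq_of_le_of_card_ge (H := (embSz ι c cK hθ).range) (K := M) ?_ ?_).symm
  · rintro _ ⟨g, rfl⟩
    have hu' : ∀ a b, embSz ι c cK hθ (uG cK a b) ∈ M := fun a b => by rw [embSz_uG]; exact hWeq a b
    have ht' : ∀ h, embSz ι c cK hθ (tHom cK h) ∈ M := fun h => by rw [embSz_tHom]; exact hT h
    have hw' : embSz ι c cK hθ (wG cK) ∈ M := by rw [embSz_wG]; exact hw
    rcases exists_bruhat cK g with ⟨a, b, h, rfl⟩ | ⟨a, b, a', b', h, rfl⟩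
    · rw [map_mul]; exact mul_mem (hu' _ _) (ht' _)
    · simp only [map_mul]; exact mul_mem (mul_mem (hu' _ _) hw') (mul_mem (hu' _ _) (ht' _))
  · rw [hM, ← Nat.card_congr (MonoidHom.ofInjective (embSz_injective c cK ι hθ)).toEquiv, card_sz cK,
      ← hQdef]
    exact le_of_eq (by ring)

end Cfsg.Agent.Lib.Suz.Classify
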