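import Cfsg.Agent.Lib.Suz.Classify.Numbers
import Cfsg.Agent.Lib.Suz.Classify.Ident

/-! The subgroups of the Suzuki groups. -/

set_option autoImplicit false

namespace Cfsg.Agent.Lib.Suz.Classify

open Matrix MulAction Cfsg.Agent.Lib.Suz

/-- The trichotomy in Suzuki's theorem. -/
def Concl {F : Type*} [Field F] [Fintype F] (m : ℕ) (M : Subgroup ↥(Cfsg.Sz F m)) : Prop :=
    (∃ P : Sylow 2 ↥(Cfsg.Sz F m), M ≤ Subgroup.normalizer ((P : Subgroup ↥(Cfsg.Sz F m)) : Set ↥(Cfsg.Sz F m))) ∨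
    (∃ U : Subgroup ↥(Cfsg.Sz F m), IsCyclic ↥U ∧ Nat.card ↥U ∈ ({2 ^ (2 * m + 1) - 1, 2 ^ (2 * m + 1) + 2 ^ (m + 1) + 1, 2 ^ (2 * m + 1) - 2 ^ (m + 1) + 1} : Set ℕ) ∧
      M ≤ Subgroup.normalizer (U : Set ↥(Cfsg.Sz F m))) ∨
    (∃ (K : Type) (_ : Field K) (_ : Fintype K) (k : ℕ), 1 ≤ k ∧ k < m ∧ Fintype.card K = 2 ^ (2 * k + 1) ∧ 2 * k + 1 ∣ 2 * m + 1 ∧
      ∃ S : Subgroup ↥(Cfsg.Sz F m), Nonempty (↥S ≃* ↥(Cfsg.Sz K k)) ∧ M ≤ S)

variable {F : Type*} [Field F] [Fintype F] [CharP F 2] {m : ℕ}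

theorem map_conj_map {G : Type*} [Group G] (H : Subgroup G) (a b : G) :
    (H.map (MulAut.conj a).toMonoidHom).map (MulAut.conj b).toMonoidHom =
      H.map (MulAut.conj (b * a)).toMonoidHom := by
  rw [Subgroup.map_map]
  congr 1
  ext x
  simp [MulAut.conj_apply, mul_assoc]

theorem map_conj_one {G : Type*} [Group G] (H : Subgroup G) :
    H.map (MulAut.conj (1 : G)).toMonoidHom = H :=
  map_conj_eq_self (one_mem _)

omit [CharP F 2] in
theorem concl_conj (g : ↥(Cfsg.Sz F m)) {M : Subgroup ↥(Cfsg.Sz F m)}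
    (h : Concl m (M.map (MulAut.conj g).toMonoidHom)) : Concl m M := by
  have hback : ∀ S : Subgroup ↥(Cfsg.Sz F m), M.map (MulAut.conj g).toMonoidHom ≤ S →
      M ≤ S.map (MulAut.conj g⁻¹).toMonoidHom := by
    intro S hS
    have := Subgroup.map_mono (f := (MulAut.conj g⁻¹).toMonoidHom) hS
    rwa [map_conj_map, inv_mul_cancel, map_conj_one] at this
  rcases h with ⟨P, hP⟩ | ⟨U, hc, hn, hU⟩ | ⟨K, iK, iK', k, h1, h2, h3, h4, S, ⟨e⟩, hS⟩
  · haveI : Fact (Nat.Prime 2) := ⟨Nat.prime_two⟩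
    refine Or.inl ⟨g⁻¹ • P, ?_⟩
    have := hback _ hP
    rwa [normalizer_map_conj] at this
  · refine Or.inr (Or.inl ⟨U.map (MulAut.conj g⁻¹).toMonoidHom, ?_, ?_, ?_⟩)
    · exact isCyclic_of_surjective _ (Subgroup.equivMapOfInjective U _ (MulAut.conj g⁻¹).injective).surjective
    · rwa [Subgroup.card_map_of_injective (MulAut.conj g⁻¹).injective]
    · have := hback _ hU
      rwa [normalizer_map_conj] at this
  · exact Or.inr (Or.inr ⟨K, iK, iK', k, h1, h2, h3, h4, _,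
      ⟨(S.equivMapOfInjective _ (MulAut.conj g⁻¹).injective).symm.trans e⟩, hback _ hS⟩)

theorem conj_mem_map_subtype {G : Type*} [Group G] {M : Subgroup G} {N : Subgroup ↥M} (hN : N.Normal)
    {g x : G} (hg : g ∈ M) (hx : x ∈ N.map M.subtype) : g * x * g⁻¹ ∈ N.map M.subtype := by
  obtain ⟨x', hx', rfl⟩ := hx
  exact ⟨⟨g, hg⟩ * x' * ⟨g, hg⟩⁻¹, hN.conj_mem x' hx' ⟨g, hg⟩, rfl⟩

variable (c : Ctx F m)

include c

theorem card_cz_semi {x : ↥(Cfsg.Sz F m)} (hx : x ^ 4 ≠ 1) :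
    Nat.card (cz x) ∈ ({2 ^ (2 * m + 1) - 1, 2 ^ (2 * m + 1) + 2 ^ (m + 1) + 1,
      2 ^ (2 * m + 1) - 2 ^ (m + 1) + 1} : Set ℕ) := by
  rcases semi_cases c hx with hf | ⟨k, h, h1, rfl⟩
  · exact Or.inr (card_cz_free c hf)
  · left
    rw [cz_conj, cz_tHom c h1, Subgroup.card_map_of_injective (MulAut.conj k).injective, card_T c, c.hF]

theorem odd_subgroup {M : Subgroup ↥(Cfsg.Sz F m)} (hodd : Odd (Nat.card M)) (hne : M ≠ ⊥) :
    ∃ x ∈ M, x ^ 4 ≠ 1 ∧ M ≤ cz x := by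
  classical
  set g := Nat.card M with hg
  have hsemi : ∀ y ∈ M, y ≠ 1 → y ^ 4 ≠ 1 := by
    intro y hy hy1 h4
    have h1 : orderOf y ∣ g := by
      rw [show orderOf y = orderOf (⟨y, hy⟩ : M) from (Subgroup.orderOf_mk y hy).symm]
      exact orderOf_dvd_natCard _
    have h2 : orderOf y ∣ 2 ^ 2 := orderOf_dvd_of_pow_eq_one h4
    obtain ⟨i, -, hi⟩ := (Nat.dvd_prime_pow Nat.prime_two).1 h2
    rcases Nat.eq_zero_or_pos i with rfl | hi0
    · exact hy1 (orderOf_eq_one_iff.1 hi)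
    · exact (Nat.not_even_iff_odd.2 (hodd.of_dvd_nat h1))
        (by rw [hi]; exact Nat.even_pow.2 ⟨even_two, by omega⟩)
  obtain ⟨x, hx1⟩ := Subgroup.ne_bot_iff_exists_ne_one.1 hne
  have hxM : (x : ↥(Cfsg.Sz F m)) ∈ M := x.2
  have hx : (x : ↥(Cfsg.Sz F m)) ^ 4 ≠ 1 := hsemi _ hxM fun e => hx1 (Subtype.ext e)
  have hC : ∀ y ∈ M, y ^ 4 ≠ 1 →
      Nat.card (Cls M (pc M y)) * Nat.card (pc M y) = g * (Nat.card (pc M y) - 1) := by
    intro y hy hy4
    obtain ⟨d, hd, hd4, -⟩ := pn_card c M hy4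
    have h1 : d ∣ g := by
      have : Nat.card (pn M y) ∣ g := Subgroup.card_dvd_of_le inf_le_left
      rw [hd] at this
      exact (dvd_mul_right d _).trans this
    have hd1 : d = 1 := by
      obtain ⟨i, -, rfl⟩ := (Nat.dvd_prime_pow Nat.prime_two).1 (show d ∣ 2 ^ 2 from hd4)
      rcases Nat.eq_zero_or_pos i with rfl | hi0
      · rfl
      · exact absurd (Nat.even_pow.2 ⟨even_two, by omega⟩)
          (Nat.not_even_iff_odd.2 (hodd.of_dvd_nat h1))
    have := cls_pc_card c M hy4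
    rwa [hd, hd1, one_mul] at this
  refine ⟨x, hxM, hx, fun y hy => ?_⟩
  by_cases hy1 : y = 1
  · rw [hy1]; exact one_mem _
  have hcls : Cls M (pc M (x : ↥(Cfsg.Sz F m))) ⊆ (M : Set ↥(Cfsg.Sz F m)) \ {1} := fun z hz =>
    cls_le inf_le_left hz
  have hM1 : ((M : Set ↥(Cfsg.Sz F m)) \ {1}).ncard + 1 = g := by
    rw [Set.ncard_sdiff_singleton_add_one (one_mem M) (Set.toFinite _), ← Nat.card_coe_set_eq]
    rfl
  have hcover : (M : Set ↥(Cfsg.Sz F m)) \ {1} ⊆ Cls M (pc M (x : ↥(Cfsg.Sz F m))) := by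
    rintro z ⟨hz, hz1⟩
    by_contra hzn
    have hz4 := hsemi z hz hz1
    have hb1 := class_bound (C := Nat.card (Cls M (pc M (x : ↥(Cfsg.Sz F m))))) (d := 1) (g := g)
      (five_le_pc c M hxM hx).1 (by rw [one_mul]; exact hC _ hxM hx)
    have hb2 := class_bound (C := Nat.card (Cls M (pc M z))) (d := 1) (g := g)
      (five_le_pc c M hz hz4).1 (by rw [one_mul]; exact hC _ hz hz4)
    have hsub : Cls M (pc M z) ∪ Cls M (pc M (x : ↥(Cfsg.Sz F m))) ⊆ (M : Set ↥(Cfsg.Sz F m)) \ {1} :=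
      Set.union_subset (fun w hw => cls_le inf_le_left hw) hcls
    have := Set.ncard_le_ncard hsub (Set.toFinite _)
    rw [Set.ncard_union_eq (cls_pc_disjoint c M hz hz4 hx hzn), ← Nat.card_coe_set_eq,
      ← Nat.card_coe_set_eq] at this
    have hgpos : 0 < g := Nat.card_pos
    omega
  have heq : Nat.card (Cls M (pc M (x : ↥(Cfsg.Sz F m)))) + 1 = g := by
    rw [← hM1, Nat.card_coe_set_eq, Set.Subset.antisymm hcls hcover]
  have ha := hC _ hxM hx
  obtain ⟨a', ha'⟩ : ∃ a', Nat.card (pc M (x : ↥(Cfsg.Sz F m))) = a' + 1 :=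
    ⟨_, (Nat.succ_pred_eq_of_pos Nat.card_pos).symm⟩
  rw [ha', Nat.add_sub_cancel] at ha
  have hag : a' + 1 = g := by
    set C := Nat.card (Cls M (pc M (x : ↥(Cfsg.Sz F m))))
    nlinarith
  have hpc : pc M (x : ↥(Cfsg.Sz F m)) = M :=
    Subgroup.eq_of_le_of_card_ge inf_le_left (by rw [ha', hag])
  have hy' : y ∈ pc M (x : ↥(Cfsg.Sz F m)) := by rw [hpc]; exact hy
  exact hy'.2

theorem concl_main (M : Subgroup ↥(Cfsg.Sz F m)) (hM : M ≠ ⊤) : Concl m M := by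
  classical
  haveI : Fact (Nat.Prime 2) := ⟨Nat.prime_two⟩
  rcases Nat.even_or_odd (Nat.card M) with heven | hodd
  swap
  · rcases eq_or_ne M ⊥ with rfl | hne
    · obtain ⟨P⟩ : Nonempty (Sylow 2 ↥(Cfsg.Sz F m)) := inferInstance
      exact Or.inl ⟨P, bot_le⟩
    · obtain ⟨x, -, hx, hle⟩ := odd_subgroup c hodd hne
      exact Or.inr (Or.inl ⟨cz x, (semi_cz c hx).1, card_cz_semi c hx, hle.trans Subgroup.le_normalizer⟩)
  -- move an involution of `M` into `U`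
  obtain ⟨z, hz⟩ := exists_prime_orderOf_dvd_card' (G := M) 2 (even_iff_two_dvd.1 heven)
  rw [← Subgroup.orderOf_coe] at hz
  have hz4 : (z : ↥(Cfsg.Sz F m)) ^ 4 = 1 := pow_four_of_sq (by rw [← sq, ← hz]; exact pow_orderOf_eq_one _)
  obtain ⟨k0, hk0⟩ := uni_conj c hz4
  apply concl_conj k0⁻¹
  set M' := M.map (MulAut.conj k0⁻¹).toMonoidHom with hM'
  have hM'top : M' ≠ ⊤ := by
    intro h
    apply hM
    have := congrArg (Subgroup.map (MulAut.conj k0).toMonoidHom) h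
    rwa [hM', map_conj_map, mul_inv_cancel, map_conj_one,
      Subgroup.map_top_of_surjective _ (MulAut.conj k0).surjective] at this
  have hS : M' ⊓ uSub c ≠ ⊥ := by
    intro h
    have hm : k0⁻¹ * (z : ↥(Cfsg.Sz F m)) * k0 ∈ M' ⊓ uSub c := by
      refine ⟨⟨z, z.2, ?_⟩, hk0⟩
      simp [MulAut.conj_apply]
    rw [h, Subgroup.mem_bot] at hm
    have : (z : ↥(Cfsg.Sz F m)) = 1 := by
      rw [show (z : ↥(Cfsg.Sz F m)) = k0 * (k0⁻¹ * z * k0) * k0⁻¹ by group, hm, mul_one, mul_inv_cancel]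
    rw [this, orderOf_one] at hz
    omega
  clear_value M'
  clear hM' hk0 hz4 hz z hM heven
  by_cases hbor : M' ≤ bor F m
  · obtain ⟨P, hP⟩ := exists_sylow c
    refine Or.inl ⟨P, fun g hg => ?_⟩
    rw [hP, mem_normalizer_uSub_iff c]
    exact hbor hg
  rcases shape c M' hS hbor with hQ2 | ⟨Q, hQ4, hW, hZ, hB, hMc⟩
  · -- cyclic-by-small case
    obtain ⟨z0, hz0Z, hz01⟩ : ∃ z, z ∈ M' ⊓ zSub c ∧ z ≠ 1 := by
      obtain ⟨z, hz⟩ := Subgroup.ne_bot_iff_exists_ne_one.1 (z_ne_bot c M' hS)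
      exact ⟨z.1, z.2, fun e => hz (Subtype.ext e)⟩
    have hzunique : ∀ v ∈ M' ⊓ zSub c, v ≠ 1 → v = z0 := by
      intro v hv hv1
      by_contra hne
      have hsub : ({1, z0, v} : Set ↥(Cfsg.Sz F m)) ⊆ (M' ⊓ zSub c : Subgroup ↥(Cfsg.Sz F m)) := by
        rintro w (rfl | rfl | rfl)
        exacts [one_mem _, hz0Z, hv]
      have := Set.ncard_le_ncard hsub (Set.toFinite _)
      rw [Set.ncard_insert_of_notMem (by simp [Ne.symm hz01, Ne.symm hv1]),
        Set.ncard_pair (Ne.symm hne), ← Nat.card_coe_set_eq] at this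
      have : 2 + 1 ≤ Nat.card ↥(M' ⊓ zSub c) := this
      omega
    have hcommS : ∀ u ∈ M' ⊓ uSub c, ∀ v ∈ M' ⊓ uSub c, u * v = v * u := by
      rintro u ⟨huM, a, b, rfl⟩ v ⟨hvM, a', b', rfl⟩
      rw [uG_mul, uG_mul]
      rcases eq_or_ne a 0 with rfl | ha
      · congr 1 <;> simp [add_comm]
      rcases eq_or_ne a' 0 with rfl | ha'
      · congr 1 <;> simp [add_comm]
      have key : ∀ a b, uG c a b ∈ M' → a ≠ 0 → uG c 0 (a * th F m a) = z0 := by
        intro a b hab ha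
        refine hzunique _ ⟨by rw [← uG_sq c a b]; exact mul_mem hab hab, _, rfl⟩ fun e => ?_
        rw [← uG_zero c] at e
        exact mul_ne_zero ha ((_root_.map_ne_zero _).2 ha) (uG_inj c e).2
      have haa : a = a' := xtheta_inj c
        (uG_inj c ((key a b huM ha).trans (key a' b' hvM ha').symm)).2
      subst haa
      rw [add_comm b]
    -- Burnside's transfer theorem in `M'`
    obtain ⟨P, hP⟩ : ∃ P : Sylow 2 ↥M', (P : Subgroup ↥M') = (M' ⊓ uSub c).subgroupOf M' := by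
      have hSp : IsPGroup 2 ((M' ⊓ uSub c).subgroupOf M') := by
        intro g
        exact ⟨2, Subtype.ext (Subtype.ext (four_of_fix_inf c (Subgroup.mem_subgroupOf.1 g.2).2))⟩
      obtain ⟨P, hP⟩ := hSp.exists_le_sylow
      refine ⟨P, le_antisymm (fun y hy => ?_) hP⟩
      have h4 : ((y : ↥M') : ↥(Cfsg.Sz F m)) ^ 4 = 1 := by
        by_contra h4'
        obtain ⟨i, hi⟩ := P.2 ⟨y, hy⟩
        have ho := odd_order_semi c h4' (mem_cz_self _)
        have hd : orderOf ((y : ↥M') : ↥(Cfsg.Sz F m)) ∣ 2 ^ i := orderOf_dvd_of_pow_eq_one (by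
          have := congrArg (fun t : ↥(P : Subgroup ↥M') => ((t : ↥M') : ↥(Cfsg.Sz F m))) hi
          simpa using this)
        obtain ⟨j, -, hj⟩ := (Nat.dvd_prime_pow Nat.prime_two).1 hd
        rcases Nat.eq_zero_or_pos j with rfl | hj0
        · rw [pow_zero, orderOf_eq_one_iff] at hj
          exact h4' (by rw [hj, one_pow])
        · exact (Nat.not_even_iff_odd.2 ho) (by rw [hj]; exact Nat.even_pow.2 ⟨even_two, by omega⟩)
      rw [Subgroup.mem_subgroupOf]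
      refine ⟨y.2, uni_mem_uSub c h4 ?_⟩
      -- `y` and `z0` lie in a common 2-group, so they fix the same point
      obtain ⟨R, hR⟩ := (P.2.map M'.subtype).exists_le_sylow
      obtain ⟨k, hk⟩ := sylow_conj c R
      have hmemR : ∀ w ∈ (R : Subgroup ↥(Cfsg.Sz F m)), w • k • pt (F := F) m none = k • pt m none := by
        intro w hw
        rw [hk, Subgroup.mem_map_equiv, MulAut.conj_symm_apply] at hw
        have := mem_bor_of_uSub c hw
        rw [mul_smul, mul_smul, inv_smul_eq_iff] at this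
        exact this
      have hz0U : z0 ∈ uSub c := by
        obtain ⟨b, hb⟩ := hz0Z.2
        rw [hb]; exact uG_mem_uSub c 0 b
      have hz0R : z0 ∈ (R : Subgroup ↥(Cfsg.Sz F m)) :=
        hR ⟨⟨z0, hz0Z.1⟩, hP (Subgroup.mem_subgroupOf.2 ⟨hz0Z.1, hz0U⟩), rfl⟩
      have hpt : k • pt (F := F) m none = pt m none := by
        obtain ⟨o, -, ho⟩ := uni_fix c (four_of_fix_inf c hz0U) hz01
        exact (ho _ (hmemR _ hz0R)).trans (ho _ (mem_bor_of_uSub c hz0U)).symm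
      have := hmemR _ (hR ⟨y, hy, rfl⟩)
      rwa [hpt] at this
    have hN : Subgroup.normalizer ((P : Subgroup ↥M') : Set ↥M') ≤
        Subgroup.centralizer ((P : Subgroup ↥M') : Set ↥M') := by
      intro g hg
      have hz0U : z0 ∈ uSub c := by
        obtain ⟨b, hb⟩ := hz0Z.2
        rw [hb]; exact uG_mem_uSub c 0 b
      have hz0P : (⟨z0, hz0Z.1⟩ : ↥M') ∈ (P : Subgroup ↥M') := by
        rw [hP]; exact Subgroup.mem_subgroupOf.2 ⟨hz0Z.1, hz0U⟩
      have h1 := (Subgroup.mem_normalizer_iff.1 hg _).1 hz0P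
      rw [hP, Subgroup.mem_subgroupOf] at h1
      have hfix := fix_inf_of_conj c (h := (g : ↥(Cfsg.Sz F m))) hz0U hz01 h1.2
      have hgb : (g : ↥(Cfsg.Sz F m)) ∈ M' ⊓ bor F m := ⟨g.2, hfix⟩
      have hconj := (z_key c M' _ g.2 z0 hz0Z hz01).2 hgb
      have hgz : (g : ↥(Cfsg.Sz F m)) * z0 * (g : ↥(Cfsg.Sz F m))⁻¹ = z0 :=
        hzunique _ hconj fun e => hz01 (conj_eq_one_iff.1 e)
      have hgU : (g : ↥(Cfsg.Sz F m)) ∈ uSub c := cz_uG c hz0U hz01 (by
        rw [Subgroup.mem_centralizer_singleton_iff]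
        calc (g : ↥(Cfsg.Sz F m)) * z0 = (g : ↥(Cfsg.Sz F m)) * z0 * (g : ↥(Cfsg.Sz F m))⁻¹ * g := by group
          _ = z0 * g := by rw [hgz])
      intro p hp
      rw [SetLike.mem_coe, hP, Subgroup.mem_subgroupOf] at hp
      exact Subtype.ext (hcommS _ hp _ ⟨g.2, hgU⟩)
    obtain ⟨Kn, hKnN, hcompl⟩ : ∃ Kn : Subgroup ↥M', Kn.Normal ∧ Kn.IsComplement' (P : Subgroup ↥M') :=
      ⟨_, MonoidHom.normal_ker _, MonoidHom.ker_transferSylow_isComplement' P hN⟩
    have hKodd : Odd (Nat.card (Kn.map M'.subtype)) := by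
      rw [Subgroup.card_map_of_injective M'.subtype_injective, ← hcompl.index_eq_card,
        Nat.odd_iff, ← Nat.not_even_iff, even_iff_two_dvd]
      exact P.not_dvd_index
    rcases eq_or_ne (Kn.map M'.subtype) ⊥ with hbot | hne
    · -- `M'` is a 2-group
      have hMP : (P : Subgroup ↥M') = ⊤ := by
        have h0 : Kn = ⊥ := (Subgroup.map_eq_bot_iff_of_injective _ M'.subtype_injective).1 hbot
        rw [h0] at hcompl
        exact Subgroup.isComplement'_bot_left.1 hcompl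
      exfalso
      apply hbor
      intro g hg
      have : (⟨g, hg⟩ : ↥M') ∈ (P : Subgroup ↥M') := by rw [hMP]; trivial
      rw [hP, Subgroup.mem_subgroupOf] at this
      exact mem_bor_of_uSub c this.2
    · obtain ⟨x, hxK, hx, hle⟩ := odd_subgroup c hKodd hne
      refine Or.inr (Or.inl ⟨cz x, (semi_cz c hx).1, card_cz_semi c hx, fun g hg => ?_⟩)
      have hconj : g * x * g⁻¹ ∈ Kn.map M'.subtype := conj_mem_map_subtype hKnN hg hxK
      exact (mem_normalizer_cz_iff c hx (mem_cz_self _) (ne_one_of_pow_four hx)).1 (hle hconj)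
  -- subfield subgroup
  obtain ⟨b, hb⟩ : ∃ b, Q = 2 ^ b := by
    obtain ⟨i, hi⟩ := (IsPGroup.iff_card.1 ((isPGroup_S c M').to_le
      (show M' ⊓ zSub c ≤ M' ⊓ uSub c from fun x hx => ⟨hx.1, by
        obtain ⟨b, hb⟩ := hx.2; rw [hb]; exact uG_mem_uSub c 0 b⟩)) :
      ∃ i, Nat.card (M' ⊓ zSub c : Subgroup ↥(Cfsg.Sz F m)) = 2 ^ i)
    exact ⟨i, hZ ▸ hi⟩
  let f : ↥(M' ⊓ bor F m : Subgroup ↥(Cfsg.Sz F m)) →* Fˣ := (tcoord c).comp (Subgroup.inclusion inf_le_right)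
  have hfker : f.ker = (M' ⊓ uSub c).subgroupOf (M' ⊓ bor F m) := by
    ext t
    rw [MonoidHom.mem_ker, MonoidHom.comp_apply, tcoord_eq_one_iff, Subgroup.mem_subgroupOf, Subgroup.mem_inf]
    exact ⟨fun h => ⟨t.2.1, h⟩, fun h => h.2⟩
  have hfcard : Nat.card f.range = Q - 1 := by
    have h := Subgroup.card_mul_index f.ker
    rw [Subgroup.index_ker, hfker, Nat.card_congr (Subgroup.subgroupOfEquivOfLe
      (show M' ⊓ uSub c ≤ M' ⊓ bor F m from fun x hx => ⟨hx.1, mem_bor_of_uSub c hx.2⟩)).toEquiv, hW, hB] at h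
    exact Nat.eq_of_mul_eq_mul_left (by positivity) h
  have hbdvd : b ∣ 2 * m + 1 := by
    have h1 : 2 ^ b - 1 ∣ 2 ^ (2 * m + 1) - 1 := by
      rw [← hb, ← hfcard, ← c.hF, ← Nat.card_eq_fintype_card, ← Nat.card_units]
      exact Subgroup.card_subgroup_dvd_card _
    have h2 := Nat.gcd_eq_left h1
    rw [Nat.pow_sub_one_gcd_pow_sub_one] at h2
    have h4 : 2 ^ Nat.gcd b (2 * m + 1) = 2 ^ b := by
      have := Nat.one_le_two_pow (n := Nat.gcd b (2 * m + 1))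
      have := Nat.one_le_two_pow (n := b)
      omega
    exact Nat.gcd_eq_left_iff_dvd.1 (Nat.pow_right_injective le_rfl h4)
  obtain ⟨k, hk⟩ : ∃ k, b = 2 * k + 1 := by
    rcases Nat.even_or_odd' b with ⟨k, hk | hk⟩
    · exfalso
      obtain ⟨t, ht⟩ := hbdvd
      rw [hk, mul_assoc] at ht
      omega
    · exact ⟨k, hk⟩
  subst hk
  have hk1 : 1 ≤ k := by
    by_contra h
    obtain rfl : k = 0 := by omega
    simp at hb
    omega
  let K := GaloisField 2 (2 * k + 1)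
  haveI : Fintype K := Fintype.ofFinite K
  have hK : Fintype.card K = 2 ^ (2 * k + 1) := by
    rw [← Nat.card_eq_fintype_card]; exact GaloisField.card 2 _ (by omega)
  have hKQ : Fintype.card K = Q := hK.trans hb.symm
  have hkm : k < m := by
    by_contra hge
    push Not at hge
    have := Nat.le_of_dvd (by omega) hbdvd
    have hkm' : k = m := by omega
    subst hkm'
    apply hM'top
    apply Subgroup.eq_top_of_card_eq
    rw [hMc, card_sz c, c.hF, hb]
    ring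
  have cK : Ctx K k := ⟨hk1, hK⟩
  haveI := charP_two cK
  obtain ⟨ι⟩ := exists_field_hom c.hF hK hbdvd
  have hθ := th_compat (F := F) (m := m) ι hbdvd hK
  -- a torus element generating the image in `Fˣ`
  obtain ⟨r, hr⟩ := IsCyclic.exists_generator (α := f.range)
  obtain ⟨y₀, hy₀⟩ := r.2
  set y := y₀ ^ (Q * Q) with hy
  have hcop : (Q * Q).Coprime (Q - 1) := by
    have : Q.Coprime (Q - 1) := by
      have h : (Q - 1 + 1).Coprime (Q - 1) := by simp
      rwa [Nat.sub_add_cancel (by omega)] at h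
    exact this.mul_left this
  have hre : orderOf ((r : f.range) : Fˣ) = Q - 1 := by
    rw [Subgroup.orderOf_coe, orderOf_eq_card_of_forall_mem_zpowers hr, hfcard]
  have hfy : orderOf (f y) = Q - 1 := by
    rw [hy, map_pow, hy₀, Nat.Coprime.orderOf_pow, hre]
    rw [hre, Nat.coprime_comm]
    exact hcop
  have hye : y ^ (Q - 1) = 1 := by
    rw [hy, ← pow_mul, mul_comm, pow_mul]
    have h1 : f (y₀ ^ (Q - 1)) = 1 := by rw [map_pow, hy₀, ← hre]; exact pow_orderOf_eq_one _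
    have h2 : ((y₀ ^ (Q - 1) : ↥(M' ⊓ bor F m : Subgroup ↥(Cfsg.Sz F m))) : ↥(Cfsg.Sz F m)) ∈ M' ⊓ uSub c :=
      ⟨(y₀ ^ (Q - 1)).2.1, (tcoord_eq_one_iff c _).1 h1⟩
    apply Subtype.ext
    have := congrArg Subtype.val (pow_card_eq_one' (G := (M' ⊓ uSub c : Subgroup ↥(Cfsg.Sz F m))) (x := ⟨_, h2⟩))
    rw [hW] at this
    simp only [SubgroupClass.coe_pow, OneMemClass.coe_one] at this ⊢
    exact this
  have hynot : (y : ↥(Cfsg.Sz F m)) ∉ uSub c := by
    intro h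
    have : f y = 1 := (tcoord_eq_one_iff c _).2 h
    rw [this, orderOf_one] at hfy
    omega
  rcases fix_inf_cases c (g := (y : ↥(Cfsg.Sz F m))) y.2.2 with h | ⟨o, ho, hoo⟩
  · exact absurd h hynot
  obtain ⟨o, rfl⟩ := (pt_bij m).2 o
  rcases o with _ | ⟨α, β⟩
  · exact absurd rfl ho
  set u := (uG c α β)⁻¹ with hu
  have huinf : u • pt (F := F) m none = pt m none := by rw [hu, inv_smul_eq_iff, uG_smul_inf]
  obtain ⟨l, hl⟩ := (two_point_iff c (u * (y : ↥(Cfsg.Sz F m)) * u⁻¹)).1 ⟨by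
    have hyy : (y : ↥(Cfsg.Sz F m)) • pt (F := F) m none = pt m none := y.2.2
    have hu' : u⁻¹ • pt (F := F) m none = pt m none := by rw [inv_smul_eq_iff, huinf]
    rw [mul_smul, mul_smul, hu', hyy, huinf], by
    rw [mul_smul, mul_smul, hu, inv_inv, uG_smul_zero, hoo, inv_smul_eq_iff, uG_smul_zero]⟩
  set M2 := M'.map (MulAut.conj u).toMonoidHom with hM2
  have hlM : tHom c l ∈ M2 := ⟨y, y.2.1, by rw [← hl]; rfl⟩
  have hlord : orderOf l = Q - 1 := by
    have e1 : orderOf (tHom c l) = orderOf l := orderOf_injective _ (tHom_injective c) l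
    rw [← e1, ← hl, ← MulAut.conj_apply, MulEquiv.orderOf_eq, Subgroup.orderOf_coe]
    exact Nat.dvd_antisymm (orderOf_dvd_of_pow_eq_one hye) (hfy ▸ orderOf_map_dvd f y)
  have hrange : Subgroup.zpowers l = (iU ι).range := subgroup_eq_of_card_units (by
    rw [Nat.card_zpowers, hlord,
      ← Nat.card_congr (MonoidHom.ofInjective (Units.map_injective (f := ι.toMonoidHom) ι.injective)).toEquiv,
      Nat.card_units, Nat.card_eq_fintype_card, hKQ])
  have hT2 : ∀ h : Kˣ, tHom c (iU ι h) ∈ M2 := by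
    intro h
    have : iU ι h ∈ Subgroup.zpowers l := hrange ▸ ⟨h, rfl⟩
    obtain ⟨i, hi⟩ := Subgroup.mem_zpowers_iff.1 this
    rw [← hi, map_zpow]
    exact zpow_mem hlM i
  have huU : u ∈ Subgroup.normalizer (uSub c : Set ↥(Cfsg.Sz F m)) := (mem_normalizer_uSub_iff c u).2 huinf
  have huB : u ∈ Subgroup.normalizer (bor F m : Set ↥(Cfsg.Sz F m)) := Subgroup.le_normalizer huinf
  have hW2 : Nat.card (M2 ⊓ uSub c : Subgroup ↥(Cfsg.Sz F m)) = Q * Q := by
    rw [hM2, inf_card_conj c huU, hW]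
  have hZ2 : Nat.card (M2 ⊓ zSub c : Subgroup ↥(Cfsg.Sz F m)) = Q := by
    rw [hM2, inf_card_conj c (normalizer_zSub c huinf), hZ]
  have hB2 : Nat.card (M2 ⊓ bor F m : Subgroup ↥(Cfsg.Sz F m)) = Q * Q * (Q - 1) := by
    rw [hM2, inf_card_conj c huB, hB]
  -- scale a central involution to `U(0,1)`
  obtain ⟨z1, hz1, hz11⟩ : ∃ z, z ∈ M2 ⊓ zSub c ∧ z ≠ 1 := by
    have hne : M2 ⊓ zSub c ≠ ⊥ := by
      intro h
      rw [h, Subgroup.card_bot] at hZ2
      omega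
    obtain ⟨z, hz⟩ := Subgroup.ne_bot_iff_exists_ne_one.1 hne
    exact ⟨z.1, z.2, fun e => hz (Subtype.ext e)⟩
  obtain ⟨hz1M, b0, rfl⟩ := hz1
  have hb0 : b0 ≠ 0 := fun e => hz11 (by rw [e, uG_zero])
  obtain ⟨-, ⟨l0, hl0⟩, -⟩ := theta_units_surj c b0⁻¹ (inv_ne_zero hb0)
  set v := tHom c l0 with hv
  set M3 := M2.map (MulAut.conj v).toMonoidHom with hM3
  have hvinf : v • pt (F := F) m none = pt m none := tHom_smul_inf c l0
  have h3 : M3 = (embSz ι c cK hθ).range := by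
    refine eq_emb c cK ι hθ M3 ?_ ?_ ?_ ?_ ?_ ?_
    · rw [hM3, inf_card_conj c ((mem_normalizer_uSub_iff c v).2 hvinf), hW2, hKQ]
    · rw [hM3, inf_card_conj c (normalizer_zSub c hvinf), hZ2, hKQ]
    · rw [hM3, inf_card_conj c (Subgroup.le_normalizer (H := bor F m) hvinf), hB2, hKQ]
    · rw [hM3, Subgroup.card_map_of_injective (MulAut.conj v).injective, hM2,
        Subgroup.card_map_of_injective (MulAut.conj u).injective, hMc, hKQ]
    · intro h
      refine ⟨_, hT2 h, ?_⟩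
      show v * tHom c (iU ι h) * v⁻¹ = tHom c (iU ι h)
      rw [hv, ← map_mul, mul_comm, map_mul, mul_inv_cancel_right]
    · refine ⟨_, hz1M, ?_⟩
      show v * uG c 0 b0 * v⁻¹ = uG c 0 1
      rw [hv, tHom_conj_uG, mul_zero, hl0, inv_mul_cancel₀ hb0]
  apply concl_conj (v * u)
  refine Or.inr (Or.inr ⟨K, inferInstance, inferInstance, k, hk1, hkm, hK, hbdvd, M3, ⟨?_⟩, ?_⟩)
  · exact (MulEquiv.subgroupCongr h3).trans (MonoidHom.ofInjective (embSz_injective c cK ι hθ)).symm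
  · rw [hM3, hM2, map_conj_map]

end Cfsg.Agent.Lib.Suz.Classify
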