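import Cfsg.Agent.Lib.Suz.Classify.Borel

/-! The order equation of a subgroup of the Suzuki group. -/

set_option autoImplicit false

namespace Cfsg.Agent.Lib.Suz.Classify

open Matrix MulAction Cfsg.Agent.Lib.Suz

theorem arith_d1 {n s e C : ℕ} (hn : 1 ≤ n) (hs : 4 ≤ s) (he : 3 ≤ e) (h : n * s * e ≤ 5 * C)
    (hC : C + 1 ≤ n) : False := by
  have : 12 * n ≤ n * s * e := by
    calc 12 * n = n * 4 * 3 := by ring
      _ ≤ n * s * e := Nat.mul_le_mul (Nat.mul_le_mul_left n hs) he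
  omega

theorem arith_single {n s e a Q : ℕ} (hQ : 4 ≤ Q) (he : e + 1 = Q) (hs : s = Q ∨ s = Q * Q)
    (ha : a ∣ n) (h4 : 4 ∣ s) (hn : 1 ≤ n) (h : n * s * e + 2 * a * n = a * n * s + 2 * a) :
    s = Q ∧ n = Q + 1 := by
  obtain ⟨t, rfl⟩ := ha
  have ha0 : 0 < a := Nat.pos_of_ne_zero (by rintro rfl; simp at hn)
  have h' : t * s * e + 2 * a * t = a * t * s + 2 :=
    Nat.eq_of_mul_eq_mul_left ha0 (by linear_combination h)
  have ht2 : t ∣ 2 := by
    have h1 : t ∣ t * s * e + 2 * a * t :=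
      Nat.dvd_add (Dvd.intro (s * e) (by ring)) (Dvd.intro (2 * a) (by ring))
    rw [h'] at h1
    exact (Nat.dvd_add_right (Dvd.intro (a * s) (by ring))).1 h1
  have ht : t = 1 := by
    rcases (Nat.dvd_prime Nat.prime_two).1 ht2 with h1 | h1
    · exact h1
    · exfalso
      subst h1
      obtain ⟨s', rfl⟩ := h4
      have e1 : 2 * (4 * s') * e + 2 * a * 2 = 4 * (2 * s' * e + a) := by ring
      have e2 : a * 2 * (4 * s') = 4 * (2 * a * s') := by ring
      omega
  subst ht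
  obtain ⟨e', rfl⟩ : ∃ e', e = e' + 1 := ⟨e - 1, by omega⟩
  obtain ⟨a', rfl⟩ : ∃ a', a = a' + 1 := ⟨a - 1, by omega⟩
  have key : a' * s = s * e' + 2 * a' := by nlinarith
  rcases hs with rfl | rfl
  · refine ⟨rfl, ?_⟩
    have hQ2 : s = e' + 2 := by omega
    have : a' * e' = s * e' := by rw [hQ2] at key ⊢; linarith
    rw [Nat.eq_of_mul_eq_mul_right (by omega) this]; ring
  · exfalso
    subst he
    set Q' := e' + 1 + 1
    have hlt : e' < a' := by
      by_contra hle
      have : a' * (Q' * Q') ≤ Q' * Q' * e' := by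
        rw [mul_comm (Q' * Q')]; exact Nat.mul_le_mul_right _ (by omega)
      have ha' : a' = 0 := by omega
      subst ha'
      have : Q' * Q' * e' = 0 := by omega
      have hpos : 0 < Q' * Q' * e' := by
        have : 0 < e' := by omega
        positivity
      omega
    obtain ⟨i, rfl⟩ : ∃ i, a' = e' + 1 + i := ⟨a' - (e' + 1), by omega⟩
    simp only [Q'] at key
    have hi : i * 2 ≤ i * ((e' + 1 + 1) * (e' + 1 + 1)) := Nat.mul_le_mul_left i (by nlinarith)
    nlinarith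

theorem arith_double {n s e a b Q : ℕ} (hQ : 4 ≤ Q) (he : e + 1 = Q) (he3 : e ≠ 3)
    (hs : s = Q ∨ s = Q * Q) (h4 : 4 ∣ s) (hn : 1 ≤ n) (hse : Odd e) (hab : a * b ∣ n)
    (hae : Odd a) (hbe : Odd b)
    (h1 : n * s * e * (a + b) + 4 * n * a * b = 2 * n * s * a * b + 4 * a * b)
    (h2 : 4 * e * n + 4 * s = s * (2 * e + a + b) + 4 * e) :
    s = Q * Q ∧ n = Q * Q + 1 := by
  obtain ⟨t, rfl⟩ := hab
  have hab0 : 0 < a * b := Nat.pos_of_ne_zero (by
    intro h
    rw [h, zero_mul] at hn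
    omega)
  have h' : t * s * e * (a + b) + 4 * (a * b * t) = 2 * (a * b * t) * s + 4 :=
    Nat.eq_of_mul_eq_mul_left hab0 (by linear_combination h1)
  obtain ⟨u, hu⟩ : 2 ∣ a + b := even_iff_two_dvd.1 (hae.add_odd hbe)
  obtain ⟨s', hs'⟩ := h4
  have hodd : ¬ 2 ∣ a * b * t := by
    rintro ⟨v, hv⟩
    rw [hu, hv, hs'] at h'
    have e1 : t * (4 * s') * e * (2 * u) + 4 * (2 * v) = 8 * (t * s' * e * u + v) := by ring
    have e2 : 2 * (2 * v) * (4 * s') = 8 * (2 * v * s') := by ring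
    omega
  have ht4 : t ∣ 4 := by
    have h3 : t ∣ t * s * e * (a + b) + 4 * (a * b * t) :=
      Nat.dvd_add (Dvd.intro (s * e * (a + b)) (by ring)) (Dvd.intro (4 * a * b) (by ring))
    rw [h'] at h3
    exact (Nat.dvd_add_right (Dvd.intro (2 * a * b * s) (by ring))).1 h3
  have ht : t = 1 := by
    obtain ⟨i, -, rfl⟩ := (Nat.dvd_prime_pow Nat.prime_two).1 (show t ∣ 2 ^ 2 from ht4)
    rcases i with _ | i
    · rfl
    · exact absurd (Dvd.intro (a * b * 2 ^ i) (by ring)) hodd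
  subst ht
  rw [mul_one] at *
  obtain ⟨e', rfl⟩ : ∃ e', e = e' + 1 := ⟨e - 1, by omega⟩
  obtain ⟨N, hN⟩ : ∃ N, a * b = N + 1 := ⟨a * b - 1, by omega⟩
  rw [hN] at h' h2
  have key : (N : ℤ) * (2 * ((e' : ℤ) + 1) ^ 2 + 2 - s) = s * (e' : ℤ) ^ 2 := by
    have h'' : ((s : ℤ)) * ((e' : ℤ) + 1) * ((a : ℤ) + b) + 4 * ((N : ℤ) + 1) =
        2 * ((N : ℤ) + 1) * s + 4 := by
      exact_mod_cast (by linear_combination h' :
        s * (e' + 1) * (a + b) + 4 * (N + 1) = 2 * (N + 1) * s + 4)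
    have h2' : 4 * ((e' : ℤ) + 1) * ((N : ℤ) + 1) + 4 * s =
        s * (2 * ((e' : ℤ) + 1) + a + b) + 4 * ((e' : ℤ) + 1) := by exact_mod_cast h2
    nlinarith
  rcases hs with rfl | rfl
  · exfalso
    have hQ2 : (s : ℤ) = (e' : ℤ) + 2 := by exact_mod_cast (show s = e' + 2 by omega)
    -- `s` divides `4 N`
    obtain ⟨j, hj⟩ : (s : ℕ) ∣ 4 * N := by
      have hd : s ∣ 4 * (e' + 1) * N := by
        have h5 : 4 * (e' + 1) * N + 4 * s = s * (2 * (e' + 1) + a + b) := by linarith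
        have h6 : s ∣ 4 * (e' + 1) * N + 4 * s := by rw [h5]; exact dvd_mul_right _ _
        exact (Nat.dvd_add_left (dvd_mul_left s 4)).1 h6
      rw [show 4 * (e' + 1) * N = (4 * N) * (e' + 1) by ring] at hd
      refine Nat.Coprime.dvd_of_dvd_mul_right ?_ hd
      rw [Nat.coprime_comm, show s = 1 + (e' + 1) by omega, Nat.coprime_add_self_right]
      exact Nat.coprime_one_right _
    have hj' : 4 * (N : ℤ) = s * j := by exact_mod_cast hj
    have hk2 : (j : ℤ) * (2 * ((e' : ℤ) + 1) ^ 2 + 2 - s) = 4 * (e' : ℤ) ^ 2 := by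
      have hspos : (s : ℤ) ≠ 0 := by omega
      apply mul_left_cancel₀ hspos
      linear_combination 4 * key - (2 * ((e' : ℤ) + 1) ^ 2 + 2 - s) * hj'
    rw [hQ2] at hk2
    have he2 : (2 : ℤ) ≤ e' := by omega
    rcases Nat.lt_or_ge j 2 with hj2 | hj2
    · interval_cases j
      · push_cast at hk2; nlinarith
      · push_cast at hk2
        have : ((e' : ℤ) - 2) * (2 * e' + 1) = 0 := by linear_combination -hk2
        rcases mul_eq_zero.1 this with h | h <;> omega
    · have : (2 : ℤ) ≤ j := by exact_mod_cast hj2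
      have hpos : (0 : ℤ) ≤ 2 * ((e' : ℤ) + 1) ^ 2 + 2 - ((e' : ℤ) + 2) := by nlinarith
      have := mul_le_mul_of_nonneg_right this hpos
      nlinarith
  · refine ⟨rfl, ?_⟩
    subst he
    push_cast at key
    have he' : (e' : ℤ) ^ 2 ≠ 0 := pow_ne_zero _ (by omega)
    have hNs : (N : ℤ) = ((e' : ℤ) + 1 + 1) * ((e' : ℤ) + 1 + 1) :=
      mul_right_cancel₀ he' (by linear_combination key)
    have : N = (e' + 1 + 1) * (e' + 1 + 1) := by exact_mod_cast hNs
    rw [hN, this]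

theorem pow_four_of_sq {X : Type*} [Group X] {x : X} (h : x * x = 1) : x ^ 4 = 1 := by
  rw [show (4 : ℕ) = 2 * 2 from rfl, pow_mul, sq x, h, one_pow]

theorem class_bound {C d a g : ℕ} (ha : 5 ≤ a) (h : C * (d * a) = g * (a - 1)) : 4 * g ≤ 5 * d * C := by
  obtain ⟨i, rfl⟩ : ∃ i, a = i + 5 := ⟨a - 5, by omega⟩
  rw [show i + 5 - 1 = i + 4 by omega] at h
  by_contra hlt
  push Not at hlt
  have : (5 * d * C) * (i + 5) < 4 * g * (i + 5) := Nat.mul_lt_mul_of_pos_right hlt (by omega)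
  nlinarith

variable {F : Type*} [Field F] [Fintype F] [CharP F 2] {m : ℕ} (c : Ctx F m)

include c

theorem five_le_pc (M : Subgroup ↥(Cfsg.Sz F m)) {x : ↥(Cfsg.Sz F m)} (hxM : x ∈ M) (hx : x ^ 4 ≠ 1) :
    5 ≤ Nat.card (pc M x) ∧ Odd (Nat.card (pc M x)) := by
  obtain ⟨-, hodd, -⟩ := semi_cz c hx
  have ho : Odd (Nat.card (pc M x)) := hodd.of_dvd_nat (Subgroup.card_dvd_of_le inf_le_right)
  refine ⟨?_, ho⟩
  have h1 : 1 < Nat.card (pc M x) := by
    refine (Subgroup.one_lt_card_iff_ne_bot _).2 fun h => ?_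
    have : x ∈ pc M x := ⟨hxM, mem_cz_self x⟩
    rw [h, Subgroup.mem_bot] at this
    exact ne_one_of_pow_four hx this
  have h3 : Nat.card (pc M x) ≠ 3 := fun h => three_not_dvd c (h ▸ Subgroup.card_subgroup_dvd_card _)
  obtain ⟨i, hi⟩ := ho
  omega

theorem semi_of_distinct {z w : ↥(Cfsg.Sz F m)} (hz : orderOf z = 2) (hw : orderOf w = 2) {o o' : Om F m}
    (ho : z • o = o) (ho' : w • o' = o') (hne : o ≠ o') : (z * w) ^ 4 ≠ 1 := by
  intro h4
  have hzz : z * z = 1 := by rw [← sq, ← hz]; exact pow_orderOf_eq_one z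
  have hww : w * w = 1 := by rw [← sq, ← hw]; exact pow_orderOf_eq_one w
  have hz4 : z ^ 4 = 1 := pow_four_of_sq hzz
  have hw4 : w ^ 4 = 1 := pow_four_of_sq hww
  have hz1 : z ≠ 1 := fun e => by simp [e] at hz
  have hw1 : w ≠ 1 := fun e => by simp [e] at hw
  obtain ⟨o1, -, hu1⟩ := uni_fix c hz4 hz1
  obtain ⟨o2, -, hu2⟩ := uni_fix c hw4 hw1
  by_cases h1 : z * w = 1
  · have : z = w := by rw [← mul_inv_eq_one, inv_eq_of_mul_eq_one_right hww, h1]
    subst this
    exact hne ((hu1 _ ho).trans (hu1 _ ho').symm)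
  obtain ⟨p, hp, hup⟩ := uni_fix c h4 h1
  have e1 : (z * w) • z • p = z • p := by
    have hwz : w • z • p = p := by
      rw [← mul_smul, show w * z = (z * w)⁻¹ by
        rw [_root_.mul_inv_rev, inv_eq_of_mul_eq_one_right hzz, inv_eq_of_mul_eq_one_right hww],
        inv_smul_eq_iff, hp]
    rw [mul_smul, hwz]
  have hzp : z • p = p := hup _ e1
  have hwp : w • p = p := by
    rw [mul_smul] at hp
    calc w • p = z • z • w • p := by rw [← mul_smul z z, hzz, one_smul]
      _ = p := by rw [hp, hzp]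
  exact hne ((hu1 _ ho).trans ((hu1 _ hzp).symm.trans ((hu2 _ hwp).trans (hu2 _ ho').symm)))

theorem conj_of_distinct {M : Subgroup ↥(Cfsg.Sz F m)} {z w : ↥(Cfsg.Sz F m)} (hzM : z ∈ M) (hwM : w ∈ M)
    (hz : orderOf z = 2) (hw : orderOf w = 2) {o o' : Om F m} (ho : z • o = o) (ho' : w • o' = o')
    (hne : o ≠ o') : ∃ h ∈ M, w = h * z * h⁻¹ := by
  have h4 := semi_of_distinct c hz hw ho ho' hne
  set x := z * w with hx
  obtain ⟨i, hi⟩ := odd_order_semi c h4 (mem_cz_self x)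
  have hzz : z * z = 1 := by rw [← sq, ← hz]; exact pow_orderOf_eq_one z
  have hww : w * w = 1 := by rw [← sq, ← hw]; exact pow_orderOf_eq_one w
  have hzi : z⁻¹ = z := inv_eq_of_mul_eq_one_right hzz
  have hwi : w⁻¹ = w := inv_eq_of_mul_eq_one_right hww
  have hinv : z * x * z⁻¹ = x⁻¹ := by
    rw [hx, _root_.mul_inv_rev, hzi, hwi, ← mul_assoc, hzz, one_mul]
  set y := x ^ (i + 1)
  have hy2 : y * y = x := by
    rw [← pow_add, show i + 1 + (i + 1) = orderOf x + 1 by omega, pow_succ, pow_orderOf_eq_one, one_mul]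
  have hyinv : z * y * z⁻¹ = y⁻¹ := by rw [← conj_pow, hinv, inv_pow]
  refine ⟨y⁻¹, inv_mem (pow_mem (mul_mem hzM hwM) _), ?_⟩
  calc w = z * x := by rw [hx, ← mul_assoc, hzz, one_mul]
    _ = z * (y * y) := by rw [hy2]
    _ = (z * y * z⁻¹) * z * y := by group
    _ = y⁻¹ * z * y⁻¹⁻¹ := by rw [hyinv, inv_inv]

/-- The shape of a subgroup meeting `U` and moving `∞`. -/
theorem shape (M : Subgroup ↥(Cfsg.Sz F m)) (hS : M ⊓ uSub c ≠ ⊥) (hn : ¬ M ≤ bor F m) :
    Nat.card (M ⊓ zSub c : Subgroup ↥(Cfsg.Sz F m)) = 2 ∨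
    ∃ Q, 4 ≤ Q ∧ Nat.card (M ⊓ uSub c : Subgroup ↥(Cfsg.Sz F m)) = Q * Q ∧
      Nat.card (M ⊓ zSub c : Subgroup ↥(Cfsg.Sz F m)) = Q ∧
      Nat.card (M ⊓ bor F m : Subgroup ↥(Cfsg.Sz F m)) = Q * Q * (Q - 1) ∧
      Nat.card M = Q * Q * (Q - 1) * (Q * Q + 1) := by
  classical
  haveI : Fact (Nat.Prime 2) := ⟨Nat.prime_two⟩
  set g := Nat.card M with hg
  set S := M ⊓ uSub c with hSdef
  set Z := M ⊓ zSub c with hZdef
  set B := M ⊓ bor F m with hBdef
  set s := Nat.card S with hs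
  set Q := Nat.card Z with hQ
  by_cases hQ2 : Q = 2
  · exact Or.inl hQ2
  right
  have hgpos : 0 < g := Nat.card_pos
  -- the torus coordinate on `B`
  let f : ↥B →* Fˣ := (tcoord c).comp (Subgroup.inclusion inf_le_right)
  set e := Nat.card f.range with he
  have hBse : Nat.card B = s * e := by
    have hker : f.ker = S.subgroupOf B := by
      ext t
      rw [MonoidHom.mem_ker, MonoidHom.comp_apply, tcoord_eq_one_iff, Subgroup.mem_subgroupOf,
        hSdef, Subgroup.mem_inf]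
      exact ⟨fun h => ⟨t.2.1, h⟩, fun h => h.2⟩
    have hle : S ≤ B := fun x hx => ⟨hx.1, mem_bor_of_uSub c hx.2⟩
    rw [← Subgroup.card_mul_index f.ker, Subgroup.index_ker, hker,
      Nat.card_congr (Subgroup.subgroupOfEquivOfLe hle).toEquiv]
  have heodd : Odd e := by
    have hd : e ∣ Nat.card Fˣ := Subgroup.card_subgroup_dvd_card _
    rw [Nat.card_units, Nat.card_eq_fintype_card] at hd
    refine Odd.of_dvd_nat ?_ hd
    have := even_card c
    have := c.eight_le
    rw [Nat.odd_iff]; omega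
  obtain ⟨z0, hz0Z, hz01⟩ : ∃ z, z ∈ Z ∧ z ≠ 1 := by
    obtain ⟨z, hz⟩ := Subgroup.ne_bot_iff_exists_ne_one.1 (z_ne_bot c M hS)
    exact ⟨z.1, z.2, fun e => hz (Subtype.ext e)⟩
  have hzU : ∀ v ∈ zSub c, v ∈ uSub c := by rintro _ ⟨b, rfl⟩; exact uG_mem_uSub c 0 b
  have hZ2 : ∀ v ∈ zSub c, v ≠ 1 → orderOf v = 2 := by
    rintro _ ⟨b, rfl⟩ h1
    exact orderOf_eq_prime (by rw [sq, uG_sq, zero_mul, uG_zero]) h1
  have hinv : ∀ v, v ∈ Cls M Z ↔ v ∈ M ∧ orderOf v = 2 := by
    intro v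
    constructor
    · intro hv
      refine ⟨(cls_le inf_le_left hv).1, ?_⟩
      obtain ⟨h, -, u, hu, hu1, rfl⟩ := hv
      rw [← MulAut.conj_apply, MulEquiv.orderOf_eq, hZ2 u hu.2 hu1]
    · rintro ⟨hv, h2⟩
      have hvv : v * v = 1 := by rw [← sq, ← h2]; exact pow_orderOf_eq_one v
      have hv1 : v ≠ 1 := fun e => by simp [e] at h2
      obtain ⟨h, hh, u, hu, hu1, rfl⟩ := uni_mem_cls c M hS hv
        (pow_four_of_sq hvv) hv1
      refine ⟨h, hh, u, ⟨hu.1, zSub_of_order_two c hu.2 ?_⟩, hu1, rfl⟩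
      have : h * (u * u) * h⁻¹ = 1 := by rw [← hvv]; group
      exact conj_eq_one_iff.1 this
  obtain ⟨h₁, hh₁, hh₁'⟩ : ∃ h ∈ M, h • pt (F := F) m none ≠ pt m none := by
    by_contra hcon
    push Not at hcon
    exact hn fun h hh => hcon h hh
  have htrans : ∀ v, v ∈ Cls M Z → ∃ h ∈ M, v = h * z0 * h⁻¹ := by
    intro v hv
    obtain ⟨h, hh, u, hu, hu1, rfl⟩ := hv
    have hw : h₁ * z0 * h₁⁻¹ ∈ M := mul_mem (mul_mem hh₁ hz0Z.1) (inv_mem hh₁)
    have hwo : orderOf (h₁ * z0 * h₁⁻¹) = 2 := by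
      rw [← MulAut.conj_apply, MulEquiv.orderOf_eq, hZ2 _ hz0Z.2 hz01]
    have hwf : (h₁ * z0 * h₁⁻¹) • h₁ • pt (F := F) m none = h₁ • pt m none := by
      rw [mul_smul, mul_smul, inv_smul_smul, mem_bor_of_uSub c (hzU _ hz0Z.2)]
    obtain ⟨k1, hk1, e1⟩ := conj_of_distinct c hz0Z.1 hw (hZ2 _ hz0Z.2 hz01) hwo
      (mem_bor_of_uSub c (hzU _ hz0Z.2)) hwf (Ne.symm hh₁')
    obtain ⟨k2, hk2, e2⟩ := conj_of_distinct c hu.1 hw (hZ2 _ hu.2 hu1) hwo
      (mem_bor_of_uSub c (hzU _ hu.2)) hwf (Ne.symm hh₁')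
    refine ⟨h * k2⁻¹ * k1, mul_mem (mul_mem hh (inv_mem hk2)) hk1, ?_⟩
    have hu' : u = k2⁻¹ * (k1 * z0 * k1⁻¹) * k2 := by rw [← e1, e2]; group
    rw [hu']; group
  set I := Nat.card (Cls M Z) with hI
  have hIB : I * Nat.card B = g * (Q - 1) := cls_card M _ _ inf_le_left (z_key c M)
  have hcz : M ⊓ Subgroup.centralizer {z0} = S := by
    apply le_antisymm
    · exact fun x hx => ⟨hx.1, cz_uG c (hzU _ hz0Z.2) hz01 hx.2⟩
    · intro x hx
      obtain ⟨a, b, rfl⟩ := hx.2
      obtain ⟨b', hb'⟩ := hz0Z.2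
      refine ⟨hx.1, Subgroup.mem_centralizer_singleton_iff.2 ?_⟩
      rw [hb', uG_mul, uG_mul, zero_add, add_zero, map_zero, mul_zero, add_zero, zero_mul, add_zero,
        add_comm b]
  have hIs : I * s = g := by
    rw [hs, ← hcz, hI, hg, ← orbit_card M z0]
    congr 1
    refine Nat.card_congr (Equiv.subtypeEquivRight fun v => ?_)
    exact ⟨fun hv => htrans v hv, fun ⟨h, hh, e⟩ => ⟨h, hh, z0, hz0Z, hz01, e⟩⟩
  have hQ1 : 1 < Q := (Subgroup.one_lt_card_iff_ne_bot _).2 (z_ne_bot c M hS)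
  have heQ : e + 1 = Q := by
    have hIpos : 0 < I := by
      rcases Nat.eq_zero_or_pos I with h | h
      · rw [h, zero_mul] at hIs; omega
      · exact h
    rw [hBse, ← hIs, mul_assoc] at hIB
    have := Nat.eq_of_mul_eq_mul_left hIpos hIB
    have hspos : 0 < s := Nat.card_pos
    have := Nat.eq_of_mul_eq_mul_left hspos this
    omega
  have he2 : 2 ≤ e := by omega
  -- `s` is `Q` or `Q²`
  have hsQ : s = Q ∨ s = Q * Q := by
    let π : ↥S →* Multiplicative F := MonoidHom.mk'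
      (fun u => Multiplicative.ofAdd (Classical.choose u.2.2)) fun u v => by
        obtain ⟨b1, e1⟩ := Classical.choose_spec u.2.2
        obtain ⟨b2, e2⟩ := Classical.choose_spec v.2.2
        obtain ⟨b3, e3⟩ := Classical.choose_spec (u * v).2.2
        have e4 := (uG_mul c _ b1 _ b2).symm.trans ((congrArg₂ (· * ·) e1.symm e2.symm).trans e3)
        rw [← ofAdd_add]
        exact congrArg _ (uG_inj c e4).1.symm
    have hπ : ∀ u : ↥S, ∃ b, (u : ↥(Cfsg.Sz F m)) = uG c (π u).toAdd b := fun u => Classical.choose_spec u.2.2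
    have hker : π.ker = Z.subgroupOf S := by
      ext u
      obtain ⟨b, hb⟩ := hπ u
      rw [MonoidHom.mem_ker, Subgroup.mem_subgroupOf, hZdef, Subgroup.mem_inf]
      constructor
      · intro h
        refine ⟨u.2.1, b, ?_⟩
        rw [hb, h, toAdd_one]
      · rintro ⟨-, b', e'⟩
        rw [e'] at hb
        exact Multiplicative.toAdd.injective ((uG_inj c hb).1.symm)
    have hle : Z ≤ S := fun x hx => ⟨hx.1, hzU _ hx.2⟩
    have hsc : s = Q * Nat.card π.range := by
      rw [hs, ← Subgroup.card_mul_index π.ker, Subgroup.index_ker, hker,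
        Nat.card_congr (Subgroup.subgroupOfEquivOfLe hle).toEquiv]
    have hsqmem : ∀ α : π.range, uG c 0 ((α : Multiplicative F).toAdd * th F m (α : Multiplicative F).toAdd) ∈ Z := by
      rintro ⟨_, u, rfl⟩
      obtain ⟨b, hb⟩ := hπ u
      refine ⟨?_, _, rfl⟩
      rw [← uG_sq c _ b, ← hb]
      exact mul_mem u.2.1 u.2.1
    have hbound : Nat.card π.range ≤ Q := Nat.card_le_card_of_injective (fun α => (⟨_, hsqmem α⟩ : Z))
      fun α β h => Subtype.ext (Multiplicative.toAdd.injective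
        (xtheta_inj c (uG_inj c (congrArg Subtype.val h)).2))
    -- the nonzero part is a union of cosets of a group of order `e`
    let θu : Fˣ →* Fˣ := Units.map (th F m).toMonoidHom
    have hθu : Function.Injective θu := Units.map_injective (th F m).injective
    let R := f.range.map θu
    have hR : Nat.card R = e := Subgroup.card_map_of_injective hθu
    let X := {x : Fˣ // Multiplicative.ofAdd (x : F) ∈ π.range}
    have hXR : ∀ (x : X) (r : R), Multiplicative.ofAdd (((x.1 * r.1 : Fˣ)) : F) ∈ π.range := by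
      rintro ⟨x, u, hu⟩ ⟨_, l, ⟨t, rfl⟩, rfl⟩
      obtain ⟨b, hb⟩ := hπ u
      obtain ⟨a', b', ht⟩ := tcoord_spec c (Subgroup.inclusion inf_le_right t)
      have hmem : (t : ↥(Cfsg.Sz F m)) * u * (t : ↥(Cfsg.Sz F m))⁻¹ ∈ S := by
        rcases eq_or_ne (u : ↥(Cfsg.Sz F m)) 1 with h | h
        · rw [h, mul_one, mul_inv_cancel]; exact one_mem _
        · exact (borel_key c M _ t.2.1 _ u.2 h).2 t.2
      refine ⟨⟨_, hmem⟩, ?_⟩
      obtain ⟨b'', hb''⟩ := hπ ⟨_, hmem⟩
      have e' : (t : ↥(Cfsg.Sz F m)) * u * (t : ↥(Cfsg.Sz F m))⁻¹ = uG c a' b' *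
          (tHom c (f t) * uG c (π u).toAdd b * (tHom c (f t))⁻¹) * (uG c a' b')⁻¹ := by
        rw [show (t : ↥(Cfsg.Sz F m)) = uG c a' b' * tHom c (f t) from ht, hb]; group
      rw [tHom_conj_uG, uG_inv, uG_mul, uG_mul] at e'
      apply Multiplicative.toAdd.injective
      show (π ⟨_, hmem⟩).toAdd = (x : F) * th F m (f t : Fˣ)
      have h1 := (uG_inj c (hb''.symm.trans e')).1
      rw [h1, hu]
      simp only [toAdd_ofAdd]
      linear_combination add_self0 a'
    let fq : X → Fˣ ⧸ R := fun x => QuotientGroup.mk x.1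
    have hfib : ∀ y : Set.range fq, Nat.card {x : X // Set.rangeFactorization fq x = y} = e := by
      rintro ⟨_, x, rfl⟩
      rw [← hR]
      refine (Nat.card_congr (Equiv.ofBijective (fun r : R =>
        (⟨⟨x.1 * r.1, hXR x r⟩, Subtype.ext (QuotientGroup.eq.2 (by
          show (x.1 * r.1)⁻¹ * x.1 ∈ R
          rw [_root_.mul_inv_rev, mul_assoc, inv_mul_cancel, mul_one]; exact inv_mem r.2))⟩ :
            {x' : X // Set.rangeFactorization fq x' = ⟨fq x, x, rfl⟩})) ⟨fun a b h => ?_, fun x' => ?_⟩)).symm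
      · exact Subtype.ext (mul_left_cancel (congrArg (fun p => p.1.1) h))
      · obtain ⟨x', hx'⟩ := x'
        have hm : x.1⁻¹ * x'.1 ∈ R := QuotientGroup.eq.1 (congrArg Subtype.val hx').symm
        exact ⟨⟨_, hm⟩, Subtype.ext (Subtype.ext (mul_inv_cancel_left _ _))⟩
    have hX : Nat.card X + 1 = Nat.card π.range := by
      rw [← Finite.card_option]
      refine Nat.card_congr (Equiv.ofBijective (fun o => match o with
        | none => (1 : π.range)
        | some x => ⟨_, x.2⟩) ⟨?_, ?_⟩)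
      · rintro (_ | a) (_ | b) h
        · rfl
        · exact absurd (congrArg (fun p : π.range => (p : Multiplicative F).toAdd) h).symm b.1.ne_zero
        · exact absurd (congrArg (fun p : π.range => (p : Multiplicative F).toAdd) h) a.1.ne_zero
        · exact congrArg some (Subtype.ext (Units.ext (Multiplicative.ofAdd.injective (congrArg Subtype.val h))))
      · rintro ⟨α, hα⟩
        rcases eq_or_ne α.toAdd 0 with h | h
        · exact ⟨none, Subtype.ext (Multiplicative.toAdd.injective h.symm)⟩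
        · exact ⟨some ⟨Units.mk0 _ h, hα⟩, rfl⟩
    have hcX := card_of_fibers (Set.rangeFactorization fq) e hfib
    rcases Nat.eq_zero_or_pos (Nat.card (Set.range fq)) with h | h
    · left; rw [hsc, ← hX, hcX, h]; simp
    · right
      have : e * 1 ≤ Nat.card (Set.range fq) * e := by rw [mul_one]; exact Nat.le_mul_of_pos_left _ h
      rw [hsc]; congr 1; omega
  have h4s : 4 ∣ s := by
    obtain ⟨i, hi⟩ := (IsPGroup.iff_card.1 (isPGroup_S c M) : ∃ i, Nat.card S = 2 ^ i)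
    rw [← hs] at hi
    have h3 : 3 ≤ s := by
      rcases hsQ with h | h
      · omega
      · rw [h]
        calc 3 ≤ Q := by omega
          _ ≤ Q * Q := Nat.le_mul_self Q
    rcases i with _ | _ | i
    · simp at hi; omega
    · simp at hi; omega
    · rw [hi, pow_succ, pow_succ]; exact ⟨2 ^ i, by ring⟩
  have hQ4 : 4 ≤ Q := by
    obtain ⟨i, hi⟩ := heodd
    omega
  have he3 : e ≠ 3 := fun h => three_not_dvd c <| by
    refine dvd_trans ?_ (Subgroup.card_subgroup_dvd_card B)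
    rw [hBse, h]; exact dvd_mul_left 3 s
  -- the torus element in `B`
  obtain ⟨r, hr⟩ := IsCyclic.exists_generator (α := f.range)
  obtain ⟨y₀, hy₀⟩ := r.2
  set y : ↥B := y₀ ^ s with hy
  have hre : orderOf ((r : f.range) : Fˣ) = e := by
    rw [Subgroup.orderOf_coe, orderOf_eq_card_of_forall_mem_zpowers hr]
  have hcop : s.Coprime e := by
    obtain ⟨i, hi⟩ := (IsPGroup.iff_card.1 (isPGroup_S c M) : ∃ i, Nat.card S = 2 ^ i)
    rw [hs, hi]
    exact Nat.Coprime.pow_left _ ((Nat.prime_two.coprime_iff_not_dvd).2 (by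
      rw [← even_iff_two_dvd, Nat.not_even_iff_odd]; exact heodd))
  have hfy : orderOf (f y) = e := by
    rw [hy, map_pow, hy₀, Nat.Coprime.orderOf_pow, hre]
    rw [hre, Nat.coprime_comm]
    exact hcop
  have hye : y ^ e = 1 := by
    rw [hy, ← pow_mul, mul_comm, pow_mul]
    have h1 : f (y₀ ^ e) = 1 := by
      rw [map_pow, hy₀, ← hre]; exact pow_orderOf_eq_one _
    have h2 : ((y₀ ^ e : ↥B) : ↥(Cfsg.Sz F m)) ∈ S := by
      refine ⟨(y₀ ^ e).2.1, ?_⟩
      exact (tcoord_eq_one_iff c _).1 h1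
    apply Subtype.ext
    have := congrArg Subtype.val (pow_card_eq_one' (G := S) (x := ⟨_, h2⟩))
    simp only [SubgroupClass.coe_pow, OneMemClass.coe_one] at this ⊢
    exact this
  set x0 : ↥(Cfsg.Sz F m) := (y : ↥(Cfsg.Sz F m)) with hx0def
  have hx0 : x0 ^ 4 ≠ 1 := by
    intro h
    have h1 : f y ^ 4 = 1 := by
      rw [← map_pow, show y ^ 4 = 1 from Subtype.ext h, map_one]
    have h2 := hfy ▸ orderOf_dvd_of_pow_eq_one h1
    have := Nat.le_of_dvd (by norm_num) h2
    obtain ⟨i, hi⟩ := heodd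
    interval_cases e
    all_goals omega
  have hx0M : x0 ∈ M := y.2.1
  have hnotfree : ¬ IsFree x0 := fun h => h _ y.2.2
  have hpc0 : Nat.card (pc M x0) = e := by
    apply le_antisymm
    · have hle : pc M x0 ≤ B := by
        refine fun v hv => ⟨hv.1, ?_⟩
        rcases semi_cases c hx0 with hf | ⟨k, h, h1, hk⟩
        · exact absurd hf hnotfree
        · have hcz : cz x0 = (tHom c).range.map (MulAut.conj k).toMonoidHom := by
            rw [hk, cz_conj, cz_tHom c h1]
          obtain ⟨_, ⟨l, rfl⟩, rfl⟩ := hcz ▸ hv.2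
          have hfix : x0 • pt (F := F) m none = pt m none := y.2.2
          rw [hk, mul_smul, mul_smul, ← eq_inv_smul_iff] at hfix
          show (k * tHom c l * k⁻¹) • pt (F := F) m none = pt m none
          rcases tHom_fix c h1 hfix with hp | hp <;>
            rw [mul_smul, mul_smul, hp]
          · rw [tHom_smul_inf, ← eq_inv_smul_iff, hp]
          · rw [tHom_smul_zero, ← eq_inv_smul_iff, hp]
      let φ : ↥(pc M x0) →* f.range := f.rangeRestrict.comp (Subgroup.inclusion hle)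
      refine Nat.card_le_card_of_injective φ ((injective_iff_map_eq_one φ).2 fun v hv => ?_)
      have h1 : f (Subgroup.inclusion hle v) = 1 := congrArg Subtype.val hv
      have h2 := (tcoord_eq_one_iff c _).1 h1
      by_contra hv1
      exact ((semi_cz c hx0).2.2 _ v.2.2 fun e => hv1 (Subtype.ext e)).1 (four_of_fix_inf c h2)
    · have hox : orderOf x0 = e := by
        rw [hx0def, Subgroup.orderOf_coe]
        exact Nat.dvd_antisymm (orderOf_dvd_of_pow_eq_one hye) (hfy ▸ orderOf_map_dvd f y)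
      rw [← hox, ← Nat.card_zpowers]
      exact Subgroup.card_le_of_le (Subgroup.zpowers_le.2 ⟨hx0M, mem_cz_self x0⟩)
  obtain ⟨d0, hd0, hd04, hd02⟩ := pn_card c M hx0
  -- sizes
  obtain ⟨n, hgn⟩ : Nat.card B ∣ g := Subgroup.card_dvd_of_le inf_le_left
  rw [hBse] at hgn
  have hn1 : 1 ≤ n := by
    rcases Nat.eq_zero_or_pos n with h | h
    · rw [h, mul_zero] at hgn; omega
    · exact h
  have hnne : n ≠ 1 := by
    rintro rfl
    rw [mul_one] at hgn
    apply hn
    rw [← Subgroup.eq_of_le_of_card_ge (inf_le_left : B ≤ M) (by rw [hBse, ← hg, hgn])]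
    exact inf_le_right
  have hspos : 0 < s := Nat.card_pos
  -- the set of semisimple elements
  let U : Set ↥(Cfsg.Sz F m) := {x | x ∈ M ∧ x ^ 4 ≠ 1}
  have hUcount : Nat.card U + n * (s - 1) + 1 = g := by
    have hV : Nat.card (Cls M S) = n * (s - 1) := by
      have h := cls_card M S B inf_le_left (borel_key c M)
      rw [← hs, ← hg, hBse, hgn] at h
      exact Nat.eq_of_mul_eq_mul_left (Nat.mul_pos hspos (by omega : 0 < e)) (by linarith)
    have hall : (M : Set ↥(Cfsg.Sz F m)) = insert 1 (U ∪ Cls M S) := by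
      ext x
      constructor
      · intro hx
        by_cases h1 : x = 1
        · exact Or.inl h1
        by_cases h4 : x ^ 4 = 1
        · exact Or.inr (Or.inr (uni_mem_cls c M hS hx h4 h1))
        · exact Or.inr (Or.inl ⟨hx, h4⟩)
      · rintro (h | h | h)
        · rw [h]; exact one_mem M
        · exact h.1
        · exact (cls_le inf_le_left h).1
    have hdisj : Disjoint U (Cls M S) := by
      rw [Set.disjoint_left]
      rintro x hx ⟨h, -, u, hu, -, rfl⟩
      exact hx.2 (by rw [conj_pow, four_of_fix_inf c hu.2, mul_one, mul_inv_cancel])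
    have h1 : (1 : ↥(Cfsg.Sz F m)) ∉ U ∪ Cls M S := by
      rintro (h | h)
      · exact h.2 (one_pow 4)
      · exact (cls_le inf_le_left h).2 rfl
    have := congrArg Set.ncard hall
    rw [Set.ncard_insert_of_notMem h1, Set.ncard_union_eq hdisj, ← Nat.card_coe_set_eq,
      ← Nat.card_coe_set_eq, ← Nat.card_coe_set_eq, hV] at this
    exact this.symm
  let C := fun x => Nat.card (Cls M (pc M x))
  have hCeq : ∀ x ∈ U, ∃ d, d ∣ 4 ∧ Nat.card (pn M x) = d * Nat.card (pc M x) ∧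
      C x * (d * Nat.card (pc M x)) = g * (Nat.card (pc M x) - 1) := by
    intro x hx
    obtain ⟨d, hd, hd4, -⟩ := pn_card c M hx.2
    exact ⟨d, hd4, hd, by rw [← hd]; exact cls_pc_card c M hx.2⟩
  have hsub : ∀ x ∈ U, Cls M (pc M x) ⊆ U := fun x hx v hv => cls_pc_semi c M hx.2 hv
  have hx0U : x0 ∈ U := ⟨hx0M, hx0⟩
  have hC0 : C x0 * d0 = n * s * (e - 1) := by
    have h := cls_pc_card c M hx0
    rw [hd0, hpc0, ← hg, hgn] at h
    exact Nat.eq_of_mul_eq_mul_left (show 0 < e by omega) (by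
      show e * (C x0 * d0) = e * (n * s * (e - 1))
      linarith)
  have hdvdn : ∀ x ∈ U, x ∉ Cls M (pc M x0) → Nat.card (pc M x) ∣ n := by
    intro x hx hxn
    have h1 := pc_coprime c M hx.1 hx.2 hx0 hxn
    rw [hpc0] at h1
    have h2 : (Nat.card (pc M x)).Coprime s := by
      obtain ⟨i, hi⟩ := (IsPGroup.iff_card.1 (isPGroup_S c M) : ∃ i, Nat.card S = 2 ^ i)
      rw [hs, hi]
      exact Nat.Coprime.pow_right _ (Nat.coprime_two_right.2 (five_le_pc c M hx.1 hx.2).2)
    have h3 : Nat.card (pc M x) ∣ s * e * n := hgn ▸ Subgroup.card_dvd_of_le inf_le_left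
    exact (h2.mul_right h1).dvd_of_dvd_mul_left h3
  have hd0cases : d0 = 1 ∨ d0 = 2 := (Nat.dvd_prime Nat.prime_two).1 (hd02 hnotfree)
  have hgnse : g = n * s * e := by rw [hgn]; ring
  obtain ⟨e', hee⟩ : ∃ e', e = e' + 1 := ⟨e - 1, by omega⟩
  obtain ⟨s', hss⟩ : ∃ s', s = s' + 1 := ⟨s - 1, by omega⟩
  clear_value s e
  rcases hd0cases with rfl | rfl
  · exfalso
    rw [mul_one] at hC0
    by_cases hex : ∃ x ∈ U, x ∉ Cls M (pc M x0)
    · obtain ⟨x, hxU, hxn⟩ := hex
      obtain ⟨d, hd4, -, hC⟩ := hCeq x hxU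
      have hb := class_bound (five_le_pc c M hxU.1 hxU.2).1 hC
      have hd : d ≤ 4 := Nat.le_of_dvd (by norm_num) hd4
      have hle : C x + C x0 ≤ Nat.card U := by
        have := Set.ncard_le_ncard (Set.union_subset (hsub x hxU) (hsub x0 hx0U)) U.toFinite
        rw [Set.ncard_union_eq (cls_pc_disjoint c M hxU.1 hxU.2 hx0 hxn), ← Nat.card_coe_set_eq,
          ← Nat.card_coe_set_eq, ← Nat.card_coe_set_eq] at this
        exact this
      have hdC : 5 * d * C x ≤ 20 * C x := Nat.mul_le_mul_right _ (by omega)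
      refine arith_d1 (n := n) (s := s) (e := e) (C := C x) hn1 ?_ (by omega) (by omega) ?_
      · exact Nat.le_of_dvd hspos h4s
      · subst hee hss
        simp only [Nat.add_sub_cancel] at hC0 hUcount
        nlinarith
    · push Not at hex
      have hUeq : Nat.card U = C x0 := by
        have : U = Cls M (pc M x0) := Set.Subset.antisymm (fun x hx => hex x hx) (hsub x0 hx0U)
        rw [this]
      apply hnne
      subst hee hss
      simp only [Nat.add_sub_cancel] at hC0 hUcount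
      nlinarith
  -- `d₀ = 2`
  set R := Nat.card U - C x0 with hR
  have hC0U : C x0 ≤ Nat.card U := by
    have := Set.ncard_le_ncard (hsub x0 hx0U) U.toFinite
    rw [← Nat.card_coe_set_eq, ← Nat.card_coe_set_eq] at this
    exact this
  have hReq : 2 * R + n * s + 2 = n * s * e + 2 * n := by
    have hR2 : C x0 + R = Nat.card U := by omega
    subst hee hss
    simp only [Nat.add_sub_cancel] at hC0 hUcount
    nlinarith
  have hn2 : 2 ≤ n := by omega
  obtain ⟨s4, hs4⟩ := h4s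
  have hRbig : g ≤ 4 * R := by
    have : n * s * 2 ≤ n * s * e := Nat.mul_le_mul_left _ he2
    omega
  have hRsmall : 2 * R < g := by
    have : n * 4 ≤ n * s := Nat.mul_le_mul_left _ (by omega)
    omega
  have hex : ∃ x1 ∈ U, x1 ∉ Cls M (pc M x0) := by
    by_contra hcon
    push Not at hcon
    have : U = Cls M (pc M x0) := Set.Subset.antisymm (fun x hx => hcon x hx) (hsub x0 hx0U)
    have : Nat.card U = C x0 := by rw [this]
    omega
  obtain ⟨x1, hx1U, hx1n⟩ := hex
  have hd10 := cls_pc_disjoint c M hx1U.1 hx1U.2 hx0 hx1n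
  obtain ⟨d1, hd14, hd1, hC1⟩ := hCeq x1 hx1U
  obtain ⟨ha1, ha1odd⟩ := five_le_pc c M hx1U.1 hx1U.2
  set a1 := Nat.card (pc M x1) with ha1def
  have hb1 := class_bound ha1 hC1
  have hC1R : C x1 ≤ R := by
    have := Set.ncard_le_ncard (Set.union_subset (hsub x1 hx1U) (hsub x0 hx0U)) U.toFinite
    rw [Set.ncard_union_eq hd10, ← Nat.card_coe_set_eq, ← Nat.card_coe_set_eq, ← Nat.card_coe_set_eq] at this
    show C x1 ≤ Nat.card U - C x0
    have : C x1 + C x0 ≤ Nat.card U := this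
    omega
  have hd1pos : d1 = 1 ∨ d1 = 2 ∨ d1 = 4 := by
    have := Nat.le_of_dvd (by norm_num) hd14
    interval_cases d1
    all_goals omega
  have hsecond : ∀ x2 ∈ U, x2 ∉ Cls M (pc M x0) → x2 ∉ Cls M (pc M x1) →
      C x2 + C x1 ≤ R := by
    intro x2 hx2 h20 h21
    have hd20 := cls_pc_disjoint c M hx2.1 hx2.2 hx0 h20
    have hd21 := cls_pc_disjoint c M hx2.1 hx2.2 hx1U.2 h21
    have := Set.ncard_le_ncard (Set.union_subset (Set.union_subset (hsub x2 hx2) (hsub x1 hx1U)) (hsub x0 hx0U)) U.toFinite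
    rw [Set.ncard_union_eq (Set.disjoint_union_left.2 ⟨hd20, hd10⟩), Set.ncard_union_eq hd21,
      ← Nat.card_coe_set_eq, ← Nat.card_coe_set_eq, ← Nat.card_coe_set_eq, ← Nat.card_coe_set_eq] at this
    show C x2 + C x1 ≤ Nat.card U - C x0
    have : C x2 + C x1 + C x0 ≤ Nat.card U := this
    omega
  rcases hd1pos with rfl | rfl | rfl
  · omega
  · -- one class with index two
    exfalso
    have hcover : U ⊆ Cls M (pc M x1) ∪ Cls M (pc M x0) := by
      intro x2 hx2
      by_contra h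
      rw [Set.mem_union, not_or] at h
      obtain ⟨d2, hd24, -, hC2⟩ := hCeq x2 hx2
      have hb2 := class_bound (five_le_pc c M hx2.1 hx2.2).1 hC2
      have h2 := hsecond x2 hx2 h.2 h.1
      have : 5 * d2 * C x2 ≤ 20 * C x2 := Nat.mul_le_mul_right _ (by have := Nat.le_of_dvd (by norm_num) hd24; omega)
      omega
    have hUeq : Nat.card U = C x1 + C x0 := by
      have : U = Cls M (pc M x1) ∪ Cls M (pc M x0) :=
        Set.Subset.antisymm hcover (Set.union_subset (hsub x1 hx1U) (hsub x0 hx0U))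
      rw [this, Nat.card_coe_set_eq, Set.ncard_union_eq hd10, ← Nat.card_coe_set_eq, ← Nat.card_coe_set_eq]
    have hR1 : R = C x1 := by omega
    rw [← hR1, hgnse] at hC1
    obtain ⟨hsQ', hnQ⟩ := arith_single (n := n) (a := a1) hQ4 heQ hsQ (hdvdn x1 hx1U hx1n) ⟨s4, hs4⟩ hn1 (by
      obtain ⟨a', ha'⟩ : ∃ a', a1 = a' + 1 := ⟨a1 - 1, by omega⟩
      rw [ha'] at hC1 ⊢
      simp only [Nat.add_sub_cancel] at hC1
      nlinarith)
    refine three_not_dvd c (dvd_trans ?_ (Subgroup.card_subgroup_dvd_card M))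
    rw [← hg, hgnse, hnQ, hsQ', ← heQ]
    have : e % 3 = 0 ∨ e % 3 = 1 ∨ e % 3 = 2 := by omega
    apply Nat.dvd_of_mod_eq_zero
    rcases this with h | h | h <;> simp [Nat.mul_mod, Nat.add_mod, h]
  · -- two classes with index four
    have hC1lt : 4 * C x1 < g := by
      obtain ⟨a', ha'⟩ : ∃ a', a1 = a' + 1 := ⟨a1 - 1, by omega⟩
      rw [ha', Nat.add_sub_cancel] at hC1
      by_contra hge
      push Not at hge
      have := Nat.mul_le_mul_right (a' + 1) hge
      nlinarith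
    have hex2 : ∃ x2 ∈ U, x2 ∉ Cls M (pc M x0) ∧ x2 ∉ Cls M (pc M x1) := by
      by_contra hcon
      push Not at hcon
      have hUle : U ⊆ Cls M (pc M x1) ∪ Cls M (pc M x0) := fun x hx => by
        by_cases h : x ∈ Cls M (pc M x0)
        · exact Or.inr h
        · exact Or.inl (hcon x hx h)
      have := Set.ncard_le_ncard hUle (Set.toFinite _)
      rw [Set.ncard_union_eq hd10, ← Nat.card_coe_set_eq, ← Nat.card_coe_set_eq, ← Nat.card_coe_set_eq] at this
      have : Nat.card U ≤ C x1 + C x0 := this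
      omega
    obtain ⟨x2, hx2U, hx20, hx21⟩ := hex2
    obtain ⟨d2, hd24, hd2, hC2⟩ := hCeq x2 hx2U
    obtain ⟨ha2, ha2odd⟩ := five_le_pc c M hx2U.1 hx2U.2
    set a2 := Nat.card (pc M x2) with ha2def
    have hb2 := class_bound ha2 hC2
    have h2R := hsecond x2 hx2U hx20 hx21
    have hd2' : d2 = 4 := by
      have := Nat.le_of_dvd (by norm_num) hd24
      interval_cases d2
      all_goals omega
    subst hd2'
    have hd20 := cls_pc_disjoint c M hx2U.1 hx2U.2 hx0 hx20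
    have hd21 := cls_pc_disjoint c M hx2U.1 hx2U.2 hx1U.2 hx21
    have hdd : Disjoint (Cls M (pc M x2) ∪ Cls M (pc M x1)) (Cls M (pc M x0)) :=
      Set.disjoint_union_left.2 ⟨hd20, hd10⟩
    have hcover : U = (Cls M (pc M x2) ∪ Cls M (pc M x1)) ∪ Cls M (pc M x0) := by
      refine Set.Subset.antisymm ?_ (Set.union_subset (Set.union_subset (hsub x2 hx2U) (hsub x1 hx1U)) (hsub x0 hx0U))
      intro x3 hx3
      by_contra h
      simp only [Set.mem_union, not_or] at h
      obtain ⟨⟨h32, h31⟩, h30⟩ := h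
      obtain ⟨d3, hd34, -, hC3⟩ := hCeq x3 hx3
      have hb3 := class_bound (five_le_pc c M hx3.1 hx3.2).1 hC3
      have hd32 := cls_pc_disjoint c M hx3.1 hx3.2 hx2U.2 h32
      have hd31 := cls_pc_disjoint c M hx3.1 hx3.2 hx1U.2 h31
      have hd30 := cls_pc_disjoint c M hx3.1 hx3.2 hx0 h30
      have := Set.ncard_le_ncard (Set.union_subset (hsub x3 hx3) (Set.union_subset (Set.union_subset (hsub x2 hx2U) (hsub x1 hx1U)) (hsub x0 hx0U))) U.toFinite
      rw [Set.ncard_union_eq (Set.disjoint_union_right.2 ⟨Set.disjoint_union_right.2 ⟨hd32, hd31⟩, hd30⟩),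
        Set.ncard_union_eq hdd, Set.ncard_union_eq hd21, ← Nat.card_coe_set_eq, ← Nat.card_coe_set_eq,
        ← Nat.card_coe_set_eq, ← Nat.card_coe_set_eq, ← Nat.card_coe_set_eq] at this
      have : C x3 + (C x2 + C x1 + C x0) ≤ Nat.card U := this
      have : 5 * d3 * C x3 ≤ 20 * C x3 := Nat.mul_le_mul_right _ (by have := Nat.le_of_dvd (by norm_num) hd34; omega)
      omega
    have hUeq : Nat.card U = C x2 + C x1 + C x0 := by
      rw [hcover, Nat.card_coe_set_eq, Set.ncard_union_eq hdd, Set.ncard_union_eq hd21,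
        ← Nat.card_coe_set_eq, ← Nat.card_coe_set_eq, ← Nat.card_coe_set_eq]
    have hR12 : R = C x2 + C x1 := by omega
    have hab : a1 * a2 ∣ n := Nat.Coprime.mul_dvd_of_dvd_of_dvd
      (Nat.coprime_comm.1 (pc_coprime c M hx2U.1 hx2U.2 hx1U.2 hx21)) (hdvdn x1 hx1U hx1n) (hdvdn x2 hx2U hx20)
    -- pairs of non-commuting involutions
    have hInv : ∀ v : ↥(Cfsg.Sz F m), v ∈ M → orderOf v = 2 → v * v = 1 := fun v _ h => by
      rw [← sq, ← h]; exact pow_orderOf_eq_one v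
    have hcomm_card : ∀ v ∈ Cls M Z, Nat.card {w // w ∈ Cls M Z ∧ v * w = w * v} = e := by
      intro v hv
      obtain ⟨h, hh, rfl⟩ := htrans v hv
      have : Nat.card {w // w ∈ Z ∧ w ≠ 1} = e := by
        have h1 : Nat.card {w : Z // w ≠ 1} = e := by
          haveI : Fintype Z := Fintype.ofFinite _
          rw [Nat.card_eq_fintype_card, Fintype.card_subtype_compl, Fintype.card_subtype_eq,
            ← Nat.card_eq_fintype_card, ← hQ, ← heQ, Nat.add_sub_cancel]
        rw [← h1]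
        exact Nat.card_congr ⟨fun w => ⟨⟨w.1, w.2.1⟩, fun e => w.2.2 (congrArg Subtype.val e)⟩,
          fun w => ⟨w.1.1, w.1.2, fun e => w.2 (Subtype.ext e)⟩, fun _ => rfl, fun _ => rfl⟩
      rw [← this]
      refine (Nat.card_congr ((MulAut.conj h).toEquiv.subtypeEquiv fun w => ?_)).symm
      show w ∈ Z ∧ w ≠ 1 ↔ h * w * h⁻¹ ∈ Cls M Z ∧ h * z0 * h⁻¹ * (h * w * h⁻¹) = h * w * h⁻¹ * (h * z0 * h⁻¹)
      constructor
      · rintro ⟨hw, hw1⟩
        refine ⟨⟨h, hh, w, hw, hw1, rfl⟩, ?_⟩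
        have hw' : w ∈ M ⊓ Subgroup.centralizer {z0} := by rw [hcz]; exact ⟨hw.1, hzU _ hw.2⟩
        have := Subgroup.mem_centralizer_singleton_iff.1 hw'.2
        calc h * z0 * h⁻¹ * (h * w * h⁻¹) = h * (z0 * w) * h⁻¹ := by group
          _ = h * (w * z0) * h⁻¹ := by rw [this]
          _ = _ := by group
      · rintro ⟨hw, hc'⟩
        obtain ⟨hwM, hw2⟩ := (hinv _).1 hw
        have hwM' : w ∈ M := by
          have := mul_mem (mul_mem (inv_mem hh) hwM) hh
          simpa [mul_assoc] using this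
        have hcen : w ∈ Subgroup.centralizer {z0} := by
          rw [Subgroup.mem_centralizer_singleton_iff]
          have := congrArg (fun t => h⁻¹ * t * h) hc'
          simpa [mul_assoc] using this.symm
        have hwS : w ∈ S := hcz ▸ ⟨hwM', hcen⟩
        rw [← MulAut.conj_apply, MulEquiv.orderOf_eq] at hw2
        exact ⟨⟨hwM', zSub_of_order_two c hwS.2 (by rw [← sq, ← hw2]; exact pow_orderOf_eq_one w)⟩,
          fun e => by simp [e] at hw2⟩
    let Inv := Cls M Z
    let P := Σ v : Inv, {w : ↥(Cfsg.Sz F m) // w ∈ Inv ∧ v.1 * w ≠ w * v.1}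
    have hPcard : Nat.card P + I * e = I * I := by
      rw [Nat.card_sigma]
      have hthis : ∀ v : Inv, Nat.card {w : ↥(Cfsg.Sz F m) // w ∈ Inv ∧ v.1 * w ≠ w * v.1} + e = I := by
        intro v
        rw [← hcomm_card v.1 v.2, hI, ← Nat.card_sum]
        exact Nat.card_congr
          { toFun := Sum.elim (fun w => ⟨w.1, w.2.1⟩) (fun w => ⟨w.1, w.2.1⟩)
            invFun := fun w => if h : v.1 * w.1 = w.1 * v.1 then Sum.inr ⟨w.1, w.2, h⟩ else Sum.inl ⟨w.1, w.2, h⟩
            left_inv := fun w => by rcases w with ⟨w, h1, h2⟩ | ⟨w, h1, h2⟩ <;> simp [h2]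
            right_inv := fun w => by by_cases h : v.1 * w.1 = w.1 * v.1 <;> simp [h] }
      have hsum : ∑ v : Inv, (Nat.card {w : ↥(Cfsg.Sz F m) // w ∈ Inv ∧ v.1 * w ≠ w * v.1} + e) =
          ∑ _v : Inv, I := Finset.sum_congr rfl fun v _ => hthis v
      rw [Finset.sum_add_distrib, Finset.sum_const, Finset.sum_const, Finset.card_univ, smul_eq_mul,
        smul_eq_mul, ← Nat.card_eq_fintype_card] at hsum
      exact hsum
    have hPU : Nat.card P = C x2 * a2 + C x1 * a1 + C x0 * e := by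
      let P' := Σ x : U, {z : ↥(Cfsg.Sz F m) // z ∈ M ∧ orderOf z = 2 ∧ z * x.1 * z⁻¹ = x.1⁻¹}
      have hPP : Nat.card P = Nat.card P' := by
        have hdist : ∀ v w : ↥(Cfsg.Sz F m), v ∈ Inv → w ∈ Inv → v * w ≠ w * v → (v * w) ^ 4 ≠ 1 := by
          intro v w hv hw hne
          obtain ⟨hvM, hv2⟩ := (hinv v).1 hv
          obtain ⟨hwM, hw2⟩ := (hinv w).1 hw
          obtain ⟨h, hh, rfl⟩ := htrans v hv
          obtain ⟨k, hk, rfl⟩ := htrans w hw
          refine semi_of_distinct c hv2 hw2 (o := h • pt (F := F) m none) (o' := k • pt (F := F) m none)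
            ?_ ?_ fun hhk => hne ?_
          · rw [mul_smul, mul_smul, inv_smul_smul, mem_bor_of_uSub c (hzU _ hz0Z.2)]
          · rw [mul_smul, mul_smul, inv_smul_smul, mem_bor_of_uSub c (hzU _ hz0Z.2)]
          have hm1 : h⁻¹ * k ∈ M := mul_mem (inv_mem hh) hk
          have hb1 : (h⁻¹ * k) • pt (F := F) m none = pt m none := by rw [mul_smul, ← hhk, inv_smul_smul]
          have hfix : h⁻¹ * k ∈ B := ⟨hm1, hb1⟩
          have hmem : (h⁻¹ * k) * z0 * (h⁻¹ * k)⁻¹ ∈ Z := (z_key c M _ hfix.1 z0 hz0Z hz01).2 hfix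
          have hw' : (h⁻¹ * k) * z0 * (h⁻¹ * k)⁻¹ ∈ M ⊓ Subgroup.centralizer {z0} := by
            rw [hcz]; exact ⟨hmem.1, hzU _ hmem.2⟩
          have e3 := Subgroup.mem_centralizer_singleton_iff.1 hw'.2
          calc h * z0 * h⁻¹ * (k * z0 * k⁻¹) = h * (z0 * ((h⁻¹ * k) * z0 * (h⁻¹ * k)⁻¹)) * h⁻¹ := by group
            _ = h * (((h⁻¹ * k) * z0 * (h⁻¹ * k)⁻¹) * z0) * h⁻¹ := by rw [e3]
            _ = _ := by group
        have hzw : ∀ (x : U) (z : {z : ↥(Cfsg.Sz F m) // z ∈ M ∧ orderOf z = 2 ∧ z * x.1 * z⁻¹ = x.1⁻¹}),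
            z.1 ∈ Inv ∧ z.1 * x.1 ∈ Inv ∧ z.1 * (z.1 * x.1) ≠ z.1 * x.1 * z.1 := by
          rintro ⟨x, hx⟩ ⟨z, hzM, hz2, hz⟩
          have hzz := hInv z hzM hz2
          have hzi : z⁻¹ = z := inv_eq_of_mul_eq_one_right hzz
          rw [hzi] at hz
          refine ⟨(hinv _).2 ⟨hzM, hz2⟩, (hinv _).2 ⟨mul_mem hzM hx.1, orderOf_eq_prime ?_ ?_⟩, ?_⟩
          · rw [sq, ← mul_assoc, hz, inv_mul_cancel]
          · intro h
            have hxz : x = z := by rw [← hzi]; exact eq_inv_of_mul_eq_one_right h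
            exact hx.2 (by rw [hxz]; exact pow_four_of_sq hzz)
          · show z * (z * x) ≠ z * x * z
            rw [hz, ← mul_assoc, hzz, one_mul]
            intro h
            refine hx.2 (pow_four_of_sq ?_)
            nth_rewrite 1 [h]
            exact inv_mul_cancel x
        refine Nat.card_congr
          { toFun := fun p => ⟨⟨p.1.1 * p.2.1, mul_mem ((hinv _).1 p.1.2).1 ((hinv _).1 p.2.2.1).1,
              hdist _ _ p.1.2 p.2.2.1 p.2.2.2⟩, p.1.1, ((hinv _).1 p.1.2).1, ((hinv _).1 p.1.2).2, ?_⟩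
            invFun := fun q => ⟨⟨q.2.1, (hzw q.1 q.2).1⟩, q.2.1 * q.1.1, (hzw q.1 q.2).2.1, (hzw q.1 q.2).2.2⟩
            left_inv := fun p => ?_
            right_inv := fun q => ?_ }
        · have h1 := hInv _ ((hinv _).1 p.1.2).1 ((hinv _).1 p.1.2).2
          have h2 := hInv _ ((hinv _).1 p.2.2.1).1 ((hinv _).1 p.2.2.1).2
          rw [_root_.mul_inv_rev, inv_eq_of_mul_eq_one_right h1, inv_eq_of_mul_eq_one_right h2, ← mul_assoc, h1,
            one_mul]
        · obtain ⟨⟨v, hv⟩, w, hw⟩ := p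
          refine Sigma.subtype_ext rfl ?_
          show v * (v * w) = w
          rw [← mul_assoc, hInv v ((hinv v).1 hv).1 ((hinv v).1 hv).2, one_mul]
        · obtain ⟨⟨x, hx⟩, z, hz⟩ := q
          refine Sigma.subtype_ext (Subtype.ext ?_) rfl
          show z * (z * x) = x
          rw [← mul_assoc, hInv z hz.1 hz.2.1, one_mul]
      rw [hPP]
      haveI := Fintype.ofFinite U
      rw [Nat.card_sigma]
      have hval : ∀ (x' : ↥(Cfsg.Sz F m)) (hx' : x' ∈ U) (d : ℕ), Nat.card (pn M x') = d * Nat.card (pc M x') →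
          2 ∣ d → ∀ x ∈ Cls M (pc M x'), Nat.card {z : ↥(Cfsg.Sz F m) // z ∈ M ∧ orderOf z = 2 ∧
            z * x * z⁻¹ = x⁻¹} = Nat.card (pc M x') := fun x' hx' d hd h2 x hx =>
        inverters_card c M hx'.2 hx hd h2
      have hsplit : ∀ (φ : ↥(Cfsg.Sz F m) → ℕ), ∑ x : U, φ x.1 = ∑ x ∈ U.toFinset, φ x := fun φ => by
        rw [Finset.sum_set_coe (f := φ)]
      rw [hsplit fun x => Nat.card {z : ↥(Cfsg.Sz F m) // z ∈ M ∧ orderOf z = 2 ∧ z * x * z⁻¹ = x⁻¹}]
      have : U.toFinset = ((Cls M (pc M x2)).toFinset ∪ (Cls M (pc M x1)).toFinset) ∪ (Cls M (pc M x0)).toFinset := by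
        rw [← Set.toFinset_union, ← Set.toFinset_union]
        exact Set.toFinset_congr hcover
      rw [this, Finset.sum_union, Finset.sum_union]
      · rw [Finset.sum_congr rfl (fun x hx => hval x2 hx2U 4 hd2 (by norm_num) x (Set.mem_toFinset.1 hx)),
          Finset.sum_congr rfl (fun x hx => hval x1 hx1U 4 hd1 (by norm_num) x (Set.mem_toFinset.1 hx)),
          Finset.sum_congr rfl (fun x hx => hval x0 hx0U 2 hd0 dvd_rfl x (Set.mem_toFinset.1 hx))]
        simp only [Finset.sum_const, smul_eq_mul, ← Nat.card_eq_card_toFinset, hpc0]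
        rfl
      · exact Set.disjoint_toFinset.2 hd21
      · rw [← Set.toFinset_union]; exact Set.disjoint_toFinset.2 hdd
    have hIne : I = n * e := Nat.eq_of_mul_eq_mul_right hspos (by rw [hIs, hgnse]; ring)
    obtain ⟨a1', ha1'⟩ : ∃ a', a1 = a' + 1 := ⟨a1 - 1, by omega⟩
    obtain ⟨a2', ha2'⟩ : ∃ a', a2 = a' + 1 := ⟨a2 - 1, by omega⟩
    rw [ha1', hgnse, Nat.add_sub_cancel] at hC1
    rw [ha2', hgnse, Nat.add_sub_cancel] at hC2
    obtain ⟨hsQ', hnQ⟩ := arith_double (n := n) (a := a1) (b := a2) hQ4 heQ he3 hsQ ⟨s4, hs4⟩ hn1 heodd hab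
      ha1odd ha2odd (by
        rw [ha1', ha2']
        rw [hR12] at hReq
        have q1 := congrArg ((a2' + 1) * ·) hC1
        have q2 := congrArg ((a1' + 1) * ·) hC2
        have q3 := congrArg (((a1' + 1) * (a2' + 1)) * ·) hReq
        linarith)
      (by
        rw [hIne] at hPcard
        rw [hee, Nat.add_sub_cancel] at hC0
        subst hee
        rw [hPU, ha1', ha2'] at hPcard
        rw [ha1', ha2']
        refine Nat.eq_of_mul_eq_mul_left (show 0 < n * (e' + 1) by positivity) ?_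
        have q0 := congrArg ((e' + 1) * ·) hC0
        have q1 := hC1
        have q2 := hC2
        linarith)
    refine ⟨Q, hQ4, hsQ', rfl, ?_, ?_⟩
    · rw [hBse, hsQ', ← heQ, Nat.add_sub_cancel]
    · rw [hgn, hsQ', hnQ, ← heQ, Nat.add_sub_cancel]

end Cfsg.Agent.Lib.Suz.Classify
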