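import Cfsg.Agent.Lib.Suz.Classify.Semi
import Cfsg.Agent.Lib.Suz.Classify.Count

/-! The semisimple part of a subgroup of the Suzuki group. -/

set_option autoImplicit false

namespace Cfsg.Agent.Lib.Suz.Classify

open Matrix MulAction Cfsg.Agent.Lib.Suz

variable {F : Type*} [Field F] [Fintype F] [CharP F 2] {m : ℕ}

/-- The piece of `x` in `M`. -/
abbrev pc (M : Subgroup ↥(Cfsg.Sz F m)) (x : ↥(Cfsg.Sz F m)) : Subgroup ↥(Cfsg.Sz F m) := M ⊓ cz x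

/-- The normaliser in `M` of the piece. -/
abbrev pn (M : Subgroup ↥(Cfsg.Sz F m)) (x : ↥(Cfsg.Sz F m)) : Subgroup ↥(Cfsg.Sz F m) :=
  M ⊓ Subgroup.normalizer (cz x : Set ↥(Cfsg.Sz F m))

theorem inv_pow_four_ne {G : Type*} [Group G] {x : G} (h : x ^ 4 ≠ 1) : x⁻¹ ^ 4 ≠ 1 := by
  rwa [inv_pow, ne_eq, inv_eq_one]

theorem ne_one_of_pow_four {G : Type*} [Group G] {x : G} (h : x ^ 4 ≠ 1) : x ≠ 1 := fun e => h (by simp [e])

theorem conj_pow_four_ne {G : Type*} [Group G] {x : G} (k : G) (h : x ^ 4 ≠ 1) : (k * x * k⁻¹) ^ 4 ≠ 1 := by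
  rwa [conj_pow, ne_eq, conj_eq_one_iff]

variable (c : Ctx F m) (M : Subgroup ↥(Cfsg.Sz F m))

include c

theorem odd_order_semi {x : ↥(Cfsg.Sz F m)} (h : x ^ 4 ≠ 1) {y : ↥(Cfsg.Sz F m)} (hy : y ∈ cz x) :
    Odd (orderOf y) := by
  obtain ⟨-, ho, -⟩ := semi_cz c h
  exact ho.of_dvd_nat (orderOf_dvd_natCard (⟨y, hy⟩ : cz x) |> fun h => by rwa [Subgroup.orderOf_mk] at h)

theorem mem_normalizer_cz_iff {x y g : ↥(Cfsg.Sz F m)} (hx : x ^ 4 ≠ 1) (hy : y ∈ cz x) (hy1 : y ≠ 1) :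
    g * y * g⁻¹ ∈ cz x ↔ g ∈ Subgroup.normalizer (cz x : Set ↥(Cfsg.Sz F m)) := by
  refine ⟨fun h => ?_, fun h => (Subgroup.mem_normalizer_iff.1 h y).1 hy⟩
  have e := ((semi_cz c hx).2.2 _ h (fun e => hy1 (conj_eq_one_iff.1 e))).2
  rw [cz_conj, ((semi_cz c hx).2.2 _ hy hy1).2] at e
  rw [Subgroup.mem_normalizer_iff]
  intro t
  conv_rhs => rw [← e]
  rw [Subgroup.mem_map_equiv, MulAut.conj_symm_apply]
  simp [mul_assoc]

theorem cz_comm {x a b : ↥(Cfsg.Sz F m)} (hx : x ^ 4 ≠ 1) (ha : a ∈ cz x) (hb : b ∈ cz x) : a * b = b * a := by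
  haveI := (semi_cz c hx).1
  letI : CommGroup (cz x) := IsCyclic.commGroup
  exact congrArg Subtype.val (mul_comm (⟨a, ha⟩ : cz x) ⟨b, hb⟩)

theorem pc_key {x : ↥(Cfsg.Sz F m)} (hx : x ^ 4 ≠ 1) :
    ∀ h ∈ M, ∀ y ∈ pc M x, y ≠ 1 → (h * y * h⁻¹ ∈ pc M x ↔ h ∈ pn M x) := by
  intro h hh y hy hy1
  rw [Subgroup.mem_inf, Subgroup.mem_inf, mem_normalizer_cz_iff c hx hy.2 hy1]
  exact ⟨fun e => ⟨hh, e.2⟩, fun e => ⟨mul_mem (mul_mem hh hy.1) (inv_mem hh), e.2⟩⟩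

/-- The class of semisimple elements attached to `x`. -/
theorem cls_pc_card {x : ↥(Cfsg.Sz F m)} (hx : x ^ 4 ≠ 1) :
    Nat.card (Cls M (pc M x)) * Nat.card (pn M x) = Nat.card M * (Nat.card (pc M x) - 1) :=
  cls_card M _ _ inf_le_left (pc_key c M hx)

theorem cls_pc_semi {x y : ↥(Cfsg.Sz F m)} (hx : x ^ 4 ≠ 1) (hy : y ∈ Cls M (pc M x)) :
    y ∈ M ∧ y ^ 4 ≠ 1 := by
  refine ⟨(cls_le inf_le_left hy).1, ?_⟩
  obtain ⟨h, -, u, hu, hu1, rfl⟩ := hy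
  exact conj_pow_four_ne h ((semi_cz c hx).2.2 u hu.2 hu1).1

theorem mem_cls_self {x : ↥(Cfsg.Sz F m)} (hxM : x ∈ M) (hx : x ^ 4 ≠ 1) : x ∈ Cls M (pc M x) :=
  ⟨1, one_mem _, x, ⟨hxM, mem_cz_self x⟩, ne_one_of_pow_four hx, by simp⟩

theorem cls_pc_disjoint {x y : ↥(Cfsg.Sz F m)} (hxM : x ∈ M) (hx : x ^ 4 ≠ 1) (hy : y ^ 4 ≠ 1)
    (hne : x ∉ Cls M (pc M y)) : Disjoint (Cls M (pc M x)) (Cls M (pc M y)) := by
  rw [Set.disjoint_left]
  rintro z ⟨h, hh, u, hu, hu1, rfl⟩ ⟨h', hh', u', hu', hu1', e⟩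
  apply hne
  have hconj : (h'⁻¹ * h) * u * (h'⁻¹ * h)⁻¹ = u' := by
    calc (h'⁻¹ * h) * u * (h'⁻¹ * h)⁻¹ = h'⁻¹ * (h * u * h⁻¹) * h' := by group
      _ = u' := by rw [e]; group
  have hmem : (h'⁻¹ * h) * x * (h'⁻¹ * h)⁻¹ ∈ cz y := by
    have h1 : cz u = cz x := ((semi_cz c hx).2.2 u hu.2 hu1).2
    have h2 : cz u' = cz y := ((semi_cz c hy).2.2 u' hu'.2 hu1').2
    rw [← h2, ← hconj, cz_conj, h1]
    exact Subgroup.mem_map_of_mem _ (mem_cz_self x)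
  have hk : h'⁻¹ * h ∈ M := mul_mem (inv_mem hh') hh
  have hmM : (h'⁻¹ * h) * x * (h'⁻¹ * h)⁻¹ ∈ M := mul_mem (mul_mem hk hxM) (inv_mem hk)
  refine ⟨h⁻¹ * h', mul_mem (inv_mem hh) hh', (h'⁻¹ * h) * x * (h'⁻¹ * h)⁻¹, ⟨hmM, hmem⟩,
    fun e' => ne_one_of_pow_four hx (conj_eq_one_iff.1 e'), ?_⟩
  group

/-- Orders of pieces of different classes are coprime. -/
theorem pc_coprime {x y : ↥(Cfsg.Sz F m)} (hxM : x ∈ M) (hx : x ^ 4 ≠ 1) (hy : y ^ 4 ≠ 1)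
    (hne : x ∉ Cls M (pc M y)) : (Nat.card (pc M x)).Coprime (Nat.card (pc M y)) := by
  classical
  refine Nat.coprime_of_dvd fun p hp h1 h2 => hne ?_
  haveI : Fact p.Prime := ⟨hp⟩
  obtain ⟨u, hu⟩ := exists_prime_orderOf_dvd_card' p h1
  obtain ⟨v, hv⟩ := exists_prime_orderOf_dvd_card' p h2
  rw [← Subgroup.orderOf_coe] at hu hv
  have hp2 : p ≠ 2 := by
    rintro rfl
    have := odd_order_semi c hx u.2.2
    rw [hu] at this
    exact absurd this (by decide)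
  have hu1 : (u : ↥(Cfsg.Sz F m)) ≠ 1 := fun e => by rw [e, orderOf_one] at hu; exact hp.one_lt.ne hu
  have hP : IsPGroup p (Subgroup.zpowers (⟨u, u.2.1⟩ : ↥M)) :=
    IsPGroup.of_card (n := 1) (by rw [Nat.card_zpowers, Subgroup.orderOf_mk, hu, pow_one])
  have hQ : IsPGroup p (Subgroup.zpowers (⟨v, v.2.1⟩ : ↥M)) :=
    IsPGroup.of_card (n := 1) (by rw [Nat.card_zpowers, Subgroup.orderOf_mk, hv, pow_one])
  obtain ⟨P, hP'⟩ := hP.exists_le_sylow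
  obtain ⟨Q, hQ'⟩ := hQ.exists_le_sylow
  obtain ⟨h, hh⟩ := MulAction.exists_smul_eq ↥M Q P
  have hmem : h * ⟨v, v.2.1⟩ * h⁻¹ ∈ (P : Subgroup ↥M) := by
    rw [← hh]
    exact ⟨_, hQ' (Subgroup.mem_zpowers _), rfl⟩
  obtain ⟨R, hR⟩ := (P.2.map M.subtype).exists_le_sylow
  haveI := cyclic_sylow_odd c hp2 R
  set w : ↥(Cfsg.Sz F m) := (h : ↥(Cfsg.Sz F m)) * v * (h : ↥(Cfsg.Sz F m))⁻¹ with hw
  have huR : (u : ↥(Cfsg.Sz F m)) ∈ (R : Subgroup ↥(Cfsg.Sz F m)) := hR ⟨_, hP' (Subgroup.mem_zpowers _), rfl⟩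
  have hwR : w ∈ (R : Subgroup ↥(Cfsg.Sz F m)) := hR ⟨_, hmem, rfl⟩
  let A := Subgroup.zpowers (⟨_, huR⟩ : ↥(R : Subgroup ↥(Cfsg.Sz F m)))
  let B := Subgroup.zpowers (⟨_, hwR⟩ : ↥(R : Subgroup ↥(Cfsg.Sz F m)))
  letI : CommGroup ↥(R : Subgroup ↥(Cfsg.Sz F m)) := IsCyclic.commGroup
  have hAB : A = B := by
    have key : ∀ z : ↥(R : Subgroup ↥(Cfsg.Sz F m)), orderOf z = p →
        Subgroup.zpowers z = (powMonoidHom p : ↥(R : Subgroup ↥(Cfsg.Sz F m)) →* _).ker := fun z hz => by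
      refine Subgroup.eq_of_le_of_card_ge ?_ ?_
      · rw [Subgroup.zpowers_le]
        show z ^ p = 1
        have := pow_orderOf_eq_one z
        rwa [hz] at this
      · rw [IsCyclic.card_powMonoidHom_ker, Nat.card_zpowers, hz]
        exact Nat.gcd_le_right _ hp.pos
    exact (key _ (by rw [Subgroup.orderOf_mk, hu])).trans
      (key _ (by rw [Subgroup.orderOf_mk, hw, ← MulAut.conj_apply, MulEquiv.orderOf_eq, hv])).symm
  have : (⟨_, huR⟩ : ↥(R : Subgroup ↥(Cfsg.Sz F m))) ∈ B := hAB ▸ Subgroup.mem_zpowers _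
  obtain ⟨i, hi⟩ := Subgroup.mem_zpowers_iff.1 this
  have hi' : (u : ↥(Cfsg.Sz F m)) = (h : ↥(Cfsg.Sz F m)) * (v : ↥(Cfsg.Sz F m)) ^ i * (h : ↥(Cfsg.Sz F m))⁻¹ := by
    have := congrArg Subtype.val hi
    simp only [SubgroupClass.coe_zpow] at this
    rw [← this, hw, conj_zpow]
  have hxu : x ∈ Cls M (pc M x) := mem_cls_self c M hxM hx
  by_contra hne'
  have hu' : (u : ↥(Cfsg.Sz F m)) ∈ Cls M (pc M x) := ⟨1, one_mem _, u, u.2, hu1, by simp⟩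
  refine Set.disjoint_left.1 (cls_pc_disjoint c M hxM hx hy hne') hu'
    ⟨h, h.2, (v : ↥(Cfsg.Sz F m)) ^ i, zpow_mem v.2 i, fun e => hu1 ?_, hi'⟩
  rw [hi', e, mul_one, mul_inv_cancel]

/-- `N / piece` is small. -/
theorem pn_card {x : ↥(Cfsg.Sz F m)} (hx : x ^ 4 ≠ 1) :
    ∃ d, Nat.card (pn M x) = d * Nat.card (pc M x) ∧ d ∣ 4 ∧ (¬ IsFree x → d ∣ 2) := by
  classical
  set N := Subgroup.normalizer (cz x : Set ↥(Cfsg.Sz F m)) with hN
  let C := (cz x).subgroupOf N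
  haveI : C.Normal := Subgroup.normal_in_normalizer
  let f : ↥(pn M x) →* ↥N ⧸ C := (QuotientGroup.mk' C).comp (Subgroup.inclusion inf_le_right)
  have hker : f.ker = (pc M x).subgroupOf (pn M x) := by
    ext t
    rw [MonoidHom.mem_ker, MonoidHom.comp_apply, QuotientGroup.mk'_apply, QuotientGroup.eq_one_iff,
      Subgroup.mem_subgroupOf, Subgroup.mem_subgroupOf, Subgroup.mem_inf]
    exact ⟨fun h => ⟨t.2.1, h⟩, fun h => h.2⟩
  have hle : pc M x ≤ pn M x := inf_le_inf le_rfl Subgroup.le_normalizer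
  refine ⟨Nat.card f.range, ?_, ?_⟩
  · rw [← Subgroup.card_mul_index f.ker, Subgroup.index_ker, hker,
      Nat.card_congr (Subgroup.subgroupOfEquivOfLe hle).toEquiv, mul_comm]
  · have hd : Nat.card f.range ∣ Nat.card (↥N ⧸ C) := Subgroup.card_subgroup_dvd_card _
    have hq : Nat.card ↥N = Nat.card (↥N ⧸ C) * Nat.card (cz x) := by
      rw [Subgroup.card_eq_card_quotient_mul_card_subgroup C,
        Nat.card_congr (Subgroup.subgroupOfEquivOfLe (Subgroup.le_normalizer (H := cz x))).toEquiv]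
    have hpos : 0 < Nat.card (cz x) := Nat.card_pos
    rcases semi_normalizer c hx with ⟨hf, h⟩ | ⟨hf, h⟩ <;>
      rw [← hN, hq] at h <;> rw [Nat.eq_of_mul_eq_mul_right hpos h] at hd
    · exact ⟨hd, fun e => absurd hf e⟩
    · exact ⟨hd.trans (by norm_num), fun _ => hd⟩

theorem not_two_fixed {j y : ↥(Cfsg.Sz F m)} (hj : orderOf j = 2) (hy : y ^ 4 ≠ 1) : j ∉ cz y := fun h => by
  have := odd_order_semi c hy h
  rw [hj] at this
  exact absurd this (by decide)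

/-- Involutions in the normaliser invert the piece. -/
theorem inverts {x j y : ↥(Cfsg.Sz F m)} (hx : x ^ 4 ≠ 1) (hj : orderOf j = 2)
    (hjN : j ∈ Subgroup.normalizer (cz x : Set ↥(Cfsg.Sz F m))) (hy : y ∈ cz x) : j * y * j⁻¹ = y⁻¹ := by
  obtain ⟨hcyc, -, hti⟩ := semi_cz c hx
  have hy' : j * y * j⁻¹ ∈ cz x := (Subgroup.mem_normalizer_iff.1 hjN y).1 hy
  have hjj : j * j = 1 := by rw [← sq, ← hj]; exact pow_orderOf_eq_one j
  have hji : j⁻¹ = j := inv_eq_of_mul_eq_one_right hjj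
  have hcomm : y * (j * y * j⁻¹) = j * y * j⁻¹ * y := by
    exact cz_comm c hx hy hy'
  set t := y * (j * y * j⁻¹) with ht
  have htmem : t ∈ cz x := mul_mem hy hy'
  have hfix : j * t = t * j := by
    have : j * t * j⁻¹ = t := by
      calc j * t * j⁻¹ = (j * y * j⁻¹) * ((j * j) * y * (j * j)⁻¹) := by rw [ht]; group
        _ = j * y * j⁻¹ * y := by rw [hjj]; group
        _ = t := hcomm.symm
    calc j * t = j * t * j⁻¹ * j := by group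
      _ = t * j := by rw [this]
  by_cases ht1 : t = 1
  · exact eq_inv_of_mul_eq_one_right (by rw [← ht1])
  · exfalso
    obtain ⟨h4, he⟩ := hti t htmem ht1
    refine not_two_fixed c hj h4 (Subgroup.mem_centralizer_singleton_iff.2 hfix)

/-- The number of involutions of `M` inverting a semisimple element, when the index is even. -/
theorem inverters_card {x y : ↥(Cfsg.Sz F m)} (hx : x ^ 4 ≠ 1) (hy : y ∈ Cls M (pc M x)) {d : ℕ}
    (hd : Nat.card (pn M x) = d * Nat.card (pc M x)) (hd2 : 2 ∣ d) :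
    Nat.card {z // z ∈ M ∧ orderOf z = 2 ∧ z * y * z⁻¹ = y⁻¹} = Nat.card (pc M x) := by
  classical
  haveI : Fact (Nat.Prime 2) := ⟨Nat.prime_two⟩
  obtain ⟨j₀, hj₀⟩ := exists_prime_orderOf_dvd_card' (G := pn M x) 2 (by rw [hd]; exact hd2.mul_right _)
  rw [← Subgroup.orderOf_coe] at hj₀
  obtain ⟨h, hh, u, hu, hu1, rfl⟩ := hy
  set j : ↥(Cfsg.Sz F m) := (j₀ : ↥(Cfsg.Sz F m))
  have hjj : j * j = 1 := by rw [← sq, ← hj₀]; exact pow_orderOf_eq_one j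
  have hji : j⁻¹ = j := inv_eq_of_mul_eq_one_right hjj
  have hinv : ∀ w ∈ cz x, j * w * j⁻¹ = w⁻¹ := fun w hw => inverts c hx hj₀ j₀.2.2 hw
  have hord : ∀ w ∈ cz x, orderOf (h * (j * w) * h⁻¹) = 2 := by
    intro w hw
    rw [← MulAut.conj_apply, MulEquiv.orderOf_eq]
    refine orderOf_eq_prime ?_ fun e => ?_
    · have e2 : j * w * j = w⁻¹ := by rw [← hinv w hw, hji]
      rw [sq, ← mul_assoc, e2, inv_mul_cancel]
    · refine not_two_fixed c hj₀ hx ?_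
      show j ∈ cz x
      rw [show j = w⁻¹ from eq_inv_of_mul_eq_one_left e]
      exact inv_mem hw
  let g : ↥(pc M x) → {z // z ∈ M ∧ orderOf z = 2 ∧ z * (h * u * h⁻¹) * z⁻¹ = (h * u * h⁻¹)⁻¹} :=
    fun w => ⟨h * (j * w) * h⁻¹, mul_mem (mul_mem hh (mul_mem j₀.2.1 w.2.1)) (inv_mem hh), hord _ w.2.2, by
      have hcomm : (w : ↥(Cfsg.Sz F m)) * u * (w : ↥(Cfsg.Sz F m))⁻¹ = u := by
        rw [cz_comm c hx w.2.2 hu.2]
        group
      calc h * (j * w) * h⁻¹ * (h * u * h⁻¹) * (h * (j * w) * h⁻¹)⁻¹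
          = h * (j * ((w : ↥(Cfsg.Sz F m)) * u * (w : ↥(Cfsg.Sz F m))⁻¹) * j⁻¹) * h⁻¹ := by group
        _ = _ := by rw [hcomm, hinv u hu.2]; group⟩
  refine (Nat.card_congr (Equiv.ofBijective g ⟨fun a b e => ?_, fun z => ?_⟩)).symm
  · exact Subtype.ext (mul_left_cancel (mul_left_cancel (mul_right_cancel (congrArg Subtype.val e))))
  · obtain ⟨z, hzM, -, hz⟩ := z
    have hz' : (h⁻¹ * z * h) * u * (h⁻¹ * z * h)⁻¹ = u⁻¹ := by
      calc (h⁻¹ * z * h) * u * (h⁻¹ * z * h)⁻¹ = h⁻¹ * (z * (h * u * h⁻¹) * z⁻¹) * h := by group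
        _ = u⁻¹ := by rw [hz]; group
    have hw : j * (h⁻¹ * z * h) ∈ cz x := by
      rw [← ((semi_cz c hx).2.2 u hu.2 hu1).2, Subgroup.mem_centralizer_singleton_iff]
      have : j * (h⁻¹ * z * h) * u * (j * (h⁻¹ * z * h))⁻¹ = u := by
        calc j * (h⁻¹ * z * h) * u * (j * (h⁻¹ * z * h))⁻¹
            = j * ((h⁻¹ * z * h) * u * (h⁻¹ * z * h)⁻¹) * j⁻¹ := by group
          _ = (j * u * j⁻¹)⁻¹ := by rw [hz']; group
          _ = u := by rw [hinv u hu.2, inv_inv]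
      calc j * (h⁻¹ * z * h) * u = j * (h⁻¹ * z * h) * u * (j * (h⁻¹ * z * h))⁻¹ * (j * (h⁻¹ * z * h)) := by group
        _ = u * (j * (h⁻¹ * z * h)) := by rw [this]
    have hM1 : h⁻¹ * z * h ∈ M := mul_mem (mul_mem (inv_mem hh) hzM) hh
    have hM2 : j * (h⁻¹ * z * h) ∈ M := mul_mem j₀.2.1 hM1
    refine ⟨⟨_, hM2, hw⟩, Subtype.ext ?_⟩
    show h * (j * (j * (h⁻¹ * z * h))) * h⁻¹ = z
    rw [← mul_assoc j, hjj]; group

end Cfsg.Agent.Lib.Suz.Classify
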