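import Cfsg.Agent.Lib.Suz.Partition

/-! Unipotent and semisimple elements of the Suzuki group, for the classification of subgroups. -/

set_option autoImplicit false

namespace Cfsg.Agent.Lib.Suz.Classify

open Matrix MulAction Cfsg.Agent.Lib.Suz

variable {F : Type*} [Field F] [Fintype F] [CharP F 2] {m : ℕ} (c : Ctx F m)

include c

theorem uni_conj {x : ↥(Cfsg.Sz F m)} (h4 : x ^ 4 = 1) :
    ∃ k, k⁻¹ * x * k ∈ uSub c := by
  by_cases hf : IsFree x
  · obtain ⟨n, p, hp, ho, hd⟩ := exists_free_power c hf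
    exfalso
    have : p ∣ 2 ^ 2 := by
      rw [← ho]
      exact orderOf_dvd_of_pow_eq_one (by rw [← pow_mul, mul_comm, pow_mul, show 2 ^ 2 = 4 from rfl, h4, one_pow])
    exact (prime_facts c hp hd).1 ((Nat.prime_dvd_prime_iff_eq hp Nat.prime_two).1 (hp.dvd_of_dvd_pow this))
  · rcases not_free_cases c hf with ⟨k, u, hu, rfl⟩ | ⟨k, h, rfl⟩
    · exact ⟨k, by simpa [mul_assoc] using hu⟩
    · refine ⟨1, ?_⟩
      rw [conj_pow, conj_eq_one_iff, ← map_pow, ← map_one (tHom c)] at h4
      have h5 : (h : F) ^ 4 = 1 := by simpa using congrArg Units.val (tHom_injective c h4)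
      have : h = 1 := Units.ext (sq_eq_one' (sq_eq_one' (by linear_combination h5)))
      simp [this, one_mem]

/-- A non-trivial unipotent element has exactly one fixed point. -/
theorem uni_fix {x : ↥(Cfsg.Sz F m)} (h4 : x ^ 4 = 1) (h1 : x ≠ 1) :
    ∃ o : Om F m, x • o = o ∧ ∀ o', x • o' = o' → o' = o := by
  obtain ⟨k, hk⟩ := uni_conj c h4
  obtain ⟨a, b, e⟩ := hk
  have hx : x = k * uG c a b * k⁻¹ := by rw [← e]; group
  refine ⟨k • pt (F := F) m none, by rw [hx, mul_smul, mul_smul, inv_smul_smul, uG_smul_inf], fun o ho => ?_⟩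
  by_contra hne
  rw [hx, mul_smul, mul_smul, ← eq_inv_smul_iff] at ho
  have := uG_fix c ho (fun e' => hne (by rw [← e', smul_inv_smul]))
  exact h1 (by rw [hx, this.1, this.2, uG_zero, mul_one, mul_inv_cancel])

theorem semi_cases {x : ↥(Cfsg.Sz F m)} (h4 : x ^ 4 ≠ 1) :
    IsFree x ∨ ∃ k h, h ≠ 1 ∧ x = k * tHom c h * k⁻¹ := by
  by_cases hf : IsFree x
  · exact Or.inl hf
  rcases not_free_cases c hf with ⟨k, u, hu, rfl⟩ | ⟨k, h, rfl⟩
  · exact absurd (by rw [conj_pow, four_of_fix_inf c hu, mul_one, mul_inv_cancel]) h4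
  · refine Or.inr ⟨k, h, ?_, rfl⟩
    rintro rfl
    exact h4 (by simp)

theorem cz_tHom {h : Fˣ} (h1 : h ≠ 1) : cz (tHom c h) = (tHom c).range := by
  refine le_antisymm (cz_torus c h1) ?_
  rintro _ ⟨l, rfl⟩
  rw [Subgroup.mem_centralizer_singleton_iff, ← map_mul, ← map_mul, mul_comm]

theorem semi_cz {x : ↥(Cfsg.Sz F m)} (h4 : x ^ 4 ≠ 1) :
    IsCyclic (cz x) ∧ Odd (Nat.card (cz x)) ∧
      ∀ y ∈ cz x, y ≠ 1 → y ^ 4 ≠ 1 ∧ cz y = cz x := by
  have h8 := c.eight_le
  obtain ⟨j, hj⟩ : 2 ∣ Fintype.card F := even_card c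
  rcases semi_cases c h4 with hf | ⟨k, h, h1, rfl⟩
  · refine ⟨free_cz_cyclic c hf, ?_, fun y hy hy1 => ⟨fun e => ?_, cz_eq_of_mem c hf hy hy1⟩⟩
    · rcases Nat.even_or_odd (Nat.card (cz x)) with he | ho
      · exfalso
        have h2 := (even_iff_two_dvd.1 he).trans (card_cz_dvd c hf).1
        rw [hj] at h2
        have : 2 ∣ (2 * j) ^ 2 := Dvd.intro (2 * j ^ 2) (by ring)
        omega
      · exact ho
    · obtain ⟨k, hk⟩ := uni_conj c e
      obtain ⟨a, b, e'⟩ := hk
      refine free_of_mem_cz c hf hy hy1 (k • pt (F := F) m none) ?_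
      rw [show y = k * uG c a b * k⁻¹ by rw [← e']; group, mul_smul, mul_smul, inv_smul_smul, uG_smul_inf]
  · have e : cz (k * tHom c h * k⁻¹) = (tHom c).range.map (MulAut.conj k).toMonoidHom := by
      rw [cz_conj, cz_tHom c h1]
    refine ⟨?_, ?_, ?_⟩
    · rw [e]
      haveI : IsCyclic (tHom c).range :=
        isCyclic_of_surjective (tHom c).rangeRestrict (tHom c).rangeRestrict_surjective
      exact isCyclic_of_surjective (Subgroup.equivMapOfInjective _ _ (MulAut.conj k).injective).toMonoidHom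
        (Subgroup.equivMapOfInjective _ _ (MulAut.conj k).injective).surjective
    · rw [e, Subgroup.card_map_of_injective (MulAut.conj k).injective, card_T c, Nat.odd_iff]
      omega
    · intro y hy hy1
      rw [e] at hy
      obtain ⟨_, ⟨l, rfl⟩, rfl⟩ := hy
      have hl : l ≠ 1 := fun e' => hy1 (by simp [e'])
      refine ⟨fun e' => hl ?_, ?_⟩
      · rw [show (MulAut.conj k).toMonoidHom (tHom c l) = k * tHom c l * k⁻¹ from rfl, conj_pow,
          conj_eq_one_iff, ← map_pow, ← map_one (tHom c)] at e'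
        have h5 : (l : F) ^ 4 = 1 := by simpa using congrArg Units.val (tHom_injective c e')
        exact Units.ext (sq_eq_one' (sq_eq_one' (by linear_combination h5)))
      · rw [show (MulAut.conj k).toMonoidHom (tHom c l) = k * tHom c l * k⁻¹ from rfl, cz_conj,
          cz_tHom c hl, e]

theorem card_normalizer_T :
    Nat.card (Subgroup.normalizer ((tHom c).range : Set ↥(Cfsg.Sz F m))) = 2 * Nat.card (tHom c).range := by
  set T := (tHom c).range with hT
  set N := Subgroup.normalizer (T : Set ↥(Cfsg.Sz F m)) with hN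
  have hle : T ≤ N := Subgroup.le_normalizer
  have hw : wG c ∈ N := by
    rw [hN, Subgroup.mem_normalizer_iff]
    intro y
    rw [wG_inv]
    constructor
    · rintro ⟨l, rfl⟩; exact ⟨l⁻¹, (wG_conj_tHom c l).symm⟩
    · rintro ⟨l, hl⟩
      refine ⟨l⁻¹, ?_⟩
      rw [← wG_conj_tHom, hl, ← mul_assoc, ← mul_assoc, wG_mul_self, one_mul, mul_assoc, wG_mul_self,
        mul_one]
  have key : ∀ g ∈ N, g ∈ T ∨ g * wG c ∈ T := by
    intro g hg
    obtain ⟨x0, hx0, hx1⟩ := c.exists_k0
    set h0 : Fˣ := Units.mk0 x0 hx0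
    have hh0 : h0 ≠ 1 := fun e => hx1 (congrArg Units.val e)
    obtain ⟨l, hl⟩ := (Subgroup.mem_normalizer_iff.1 (inv_mem hg) (tHom c h0)).1 ⟨h0, rfl⟩
    rw [inv_inv] at hl
    have hfix : ∀ o : Om F m, tHom c l • o = o → tHom c h0 • g • o = g • o := by
      intro o ho
      have e : tHom c h0 * g = g * tHom c l := by rw [hl]; group
      rw [← mul_smul, e, mul_smul, ho]
    have hne : pt (F := F) m none ≠ pt m (some (0, 0)) := fun e => by simpa using (pt_bij m).1 e
    rcases tHom_fix c hh0 (hfix _ (tHom_smul_inf c l)) with h1 | h1 <;>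
      rcases tHom_fix c hh0 (hfix _ (tHom_smul_zero c l)) with h2 | h2
    · exact absurd (smul_left_cancel g (h1.trans h2.symm)) hne
    · left
      obtain ⟨h, rfl⟩ := (two_point_iff c g).1 ⟨h1, h2⟩
      exact ⟨h, rfl⟩
    · right
      obtain ⟨h, hh⟩ := (two_point_iff c (g * wG c)).1
        ⟨by rw [mul_smul, wG_smul_inf, h2], by rw [mul_smul, wG_smul_zero, h1]⟩
      exact ⟨h, hh.symm⟩
    · exact absurd (smul_left_cancel g (h1.trans h2.symm)) hne
  have hwT : wG c ∉ T := by
    rintro ⟨l, hl⟩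
    have h := wG_smul_inf c
    rw [← hl, tHom_smul_inf] at h
    simpa using (pt_bij m).1 h
  have hrel : T.relIndex N = 2 := by
    rw [Subgroup.relIndex_eq_two_iff]
    refine ⟨wG c, hw, fun b hb => ?_⟩
    rcases key b hb with h | h
    · exact Or.inr ⟨h, fun h' => hwT (by simpa using mul_mem (inv_mem h) h')⟩
    · exact Or.inl ⟨h, fun h' => hwT (by simpa using mul_mem (inv_mem h') h)⟩
  rw [← Subgroup.card_mul_index (T.subgroupOf N), Nat.card_congr (Subgroup.subgroupOfEquivOfLe hle).toEquiv,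
    show (T.subgroupOf N).index = T.relIndex N from rfl, hrel, mul_comm]

omit [Fintype F] [CharP F 2] c in
theorem normalizer_map_conj {G : Type*} [Group G] (H : Subgroup G) (k : G) :
    (Subgroup.normalizer (H : Set G)).map (MulAut.conj k).toMonoidHom =
      Subgroup.normalizer ((H.map (MulAut.conj k).toMonoidHom : Subgroup G) : Set G) :=
  Subgroup.map_equiv_normalizer_eq H (MulAut.conj k)

theorem semi_normalizer {x : ↥(Cfsg.Sz F m)} (h4 : x ^ 4 ≠ 1) :
    (IsFree x ∧ Nat.card (Subgroup.normalizer (cz x : Set ↥(Cfsg.Sz F m))) = 4 * Nat.card (cz x)) ∨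
      (¬ IsFree x ∧ Nat.card (Subgroup.normalizer (cz x : Set ↥(Cfsg.Sz F m))) = 2 * Nat.card (cz x)) := by
  rcases semi_cases c h4 with hf | ⟨k, h, h1, rfl⟩
  · left
    refine ⟨hf, ?_⟩
    obtain ⟨u, v, -, -, hcover, hNu, hNv, -, -⟩ := exists_tori c
    rcases hcover x hf with ⟨-, k, hk⟩ | ⟨-, k, hk⟩
    all_goals
      rw [hk, ← normalizer_map_conj, Subgroup.card_map_of_injective (MulAut.conj k).injective,
        Subgroup.card_map_of_injective (MulAut.conj k).injective]
      first | exact hNu | exact hNv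
  · right
    refine ⟨fun hf => hf (k • pt (F := F) m none) ?_, ?_⟩
    · rw [mul_smul, mul_smul, inv_smul_smul, tHom_smul_inf]
    · rw [cz_conj, cz_tHom c h1, ← normalizer_map_conj,
        Subgroup.card_map_of_injective (MulAut.conj k).injective,
        Subgroup.card_map_of_injective (MulAut.conj k).injective]
      exact card_normalizer_T c

end Cfsg.Agent.Lib.Suz.Classify
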